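/-
Counting planes of a finite vector space over `ZMod p`, and planes spanned by `v` and `u v`.

Main results (namespace `Cfsg.Agent.PlaneTransitive`): `card_plane_mul`, `plane_count_le`
-/
import Cfsg.Agent.EqLemmas
import Mathlib.LinearAlgebra.Matrix.GeneralLinearGroup.Card
import Mathlib.LinearAlgebra.Dimension.Constructions
import Mathlib.LinearAlgebra.FiniteDimensional.Basic

set_option autoImplicit false

namespace Cfsg.Agent.PlaneTransitive

open Module Submodule

variable (p : ℕ) [hp : Fact p.Prime] (V : Type*) [AddCommGroup V] [Module (ZMod p) V]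

/-- The 2-dimensional subspaces. -/
abbrev Plane := {W : Submodule (ZMod p) V // finrank (ZMod p) W = 2}

variable {p V} [Finite V]

theorem card_space {n : ℕ} (hn : finrank (ZMod p) V = n) : Nat.card V = p ^ n := by
  have : Module.Finite (ZMod p) V := Module.Finite.of_finite
  rw [Module.natCard_eq_pow_finrank (K := ZMod p), Nat.card_zmod, hn]

theorem card_nonzero {n : ℕ} (hn : finrank (ZMod p) V = n) : Nat.card {v : V // v ≠ 0} = p ^ n - 1 := by
  have h : Nat.card {v : V // v ≠ 0} = ({0}ᶜ : Set V).ncard := (Nat.card_coe_set_eq _).symm ▸ rfl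
  rw [h, Set.ncard_compl, Set.ncard_singleton, card_space hn]

theorem card_pairs {n : ℕ} (hn : finrank (ZMod p) V = n) (h2 : 2 ≤ n) :
    Nat.card {s : Fin 2 → V // LinearIndependent (ZMod p) s} = (p ^ n - 1) * (p ^ n - p) := by
  rw [card_linearIndependent (hn ▸ h2), Fin.prod_univ_two, ZMod.card, hn]
  simp

theorem card_plane_mul {n : ℕ} (hn : finrank (ZMod p) V = n) (h2 : 2 ≤ n) :
    Nat.card (Plane p V) * ((p ^ 2 - 1) * (p ^ 2 - p)) = (p ^ n - 1) * (p ^ n - p) := by
  classical
  haveI : Finite (Submodule (ZMod p) V) := Finite.of_injective _ SetLike.coe_injective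
  haveI := Fintype.ofFinite (Plane p V)
  rw [← card_pairs hn h2]
  let f : (Σ W : Plane p V, {s : Fin 2 → W.1 // LinearIndependent (ZMod p) s}) →
      {s : Fin 2 → V // LinearIndependent (ZMod p) s} := fun a =>
    ⟨fun i => (a.2.1 i : V), a.2.2.map' a.1.1.subtype a.1.1.ker_subtype⟩
  have hspan : ∀ a : (Σ W : Plane p V, {s : Fin 2 → W.1 // LinearIndependent (ZMod p) s}),
      span (ZMod p) (Set.range (f a).1) = a.1.1 := fun a =>
    eq_of_le_of_finrank_eq (span_le.2 (Set.range_subset_iff.2 fun i => (a.2.1 i).2))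
      (by rw [finrank_span_eq_card (f a).2, a.1.2, Fintype.card_fin])
  have hf : Function.Bijective f := by
    refine ⟨fun a b h => ?_, fun s => ?_⟩
    · have hW : a.1 = b.1 := Subtype.ext (by rw [← hspan a, ← hspan b, h])
      obtain ⟨W, s⟩ := a
      obtain ⟨W', s'⟩ := b
      obtain rfl : W = W' := hW
      congr 1
      exact Subtype.ext (funext fun i => Subtype.ext (congrFun (congrArg Subtype.val h) i))
    · refine ⟨⟨⟨span (ZMod p) (Set.range s.1), by rw [finrank_span_eq_card s.2, Fintype.card_fin]⟩,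
        ⟨fun i => ⟨s.1 i, subset_span ⟨i, rfl⟩⟩, ?_⟩⟩, rfl⟩
      exact LinearIndependent.of_comp (span (ZMod p) (Set.range s.1)).subtype s.2
  rw [← Nat.card_congr (Equiv.ofBijective f hf), Nat.card_sigma,
    Finset.sum_const_nat (m := (p ^ 2 - 1) * (p ^ 2 - p)) (fun W _ => card_pairs W.2 le_rfl),
    Finset.card_univ, Nat.card_eq_fintype_card]

theorem finrank_span_pair {v w : V} (hv : v ≠ 0) (hw : ∀ c : ZMod p, w ≠ c • v) :
    finrank (ZMod p) (span (ZMod p) ({v, w} : Set V)) = 2 := by
  have hli : LinearIndependent (ZMod p) ![v, w] := LinearIndependent.pair_iff.2 fun a b h => by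
    by_cases hb : b = 0
    · rw [hb, zero_smul, add_zero] at h
      exact ⟨(smul_eq_zero.1 h).resolve_right hv, hb⟩
    · refine absurd ?_ (hw (-(b⁻¹ * a)))
      have h' : b • w = -(a • v) := eq_neg_of_add_eq_zero_right h
      calc w = b⁻¹ • (b • w) := by rw [smul_smul, inv_mul_cancel₀ hb, one_smul]
        _ = -(b⁻¹ * a) • v := by rw [h', smul_neg, smul_smul, neg_smul]
  have h := finrank_span_eq_card hli
  rwa [Matrix.range_cons_cons_empty, Fintype.card_fin] at h

theorem span_pair_eq {W : Submodule (ZMod p) V} (hW : finrank (ZMod p) W = 2) {v w : V} (hv : v ∈ W) (hw : w ∈ W)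
    (hv0 : v ≠ 0) (h : ∀ c : ZMod p, w ≠ c • v) : span (ZMod p) ({v, w} : Set V) = W :=
  eq_of_le_of_finrank_eq (span_le.2 (Set.insert_subset hv (Set.singleton_subset_iff.2 hw)))
    (by rw [finrank_span_pair hv0 h, hW])

/-- If every plane is spanned by `v`, `u i v` in at least `m` ways there are few planes. -/
theorem plane_count_le {n : ℕ} (hn : finrank (ZMod p) V = n) {ι : Type*} [Finite ι]
    (u : ι → Module.End (ZMod p) V) (m : ℕ)
    (h : ∀ W : Plane p V, m ≤ Nat.card {iv : ι × V // span (ZMod p) {iv.2, u iv.1 iv.2} = W.1}) :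
    Nat.card (Plane p V) * m ≤ Nat.card ι * (p ^ n - 1) := by
  classical
  haveI : Finite (Submodule (ZMod p) V) := Finite.of_injective _ SetLike.coe_injective
  haveI := Fintype.ofFinite (Plane p V)
  let f : (Σ W : Plane p V, {iv : ι × V // span (ZMod p) {iv.2, u iv.1 iv.2} = W.1}) → ι × {v : V // v ≠ 0} :=
    fun a => (a.2.1.1, ⟨a.2.1.2, fun h0 => by
      have h2 := a.1.2
      have h1 := a.2.2
      rw [h0, map_zero, Set.insert_eq_of_mem (Set.mem_singleton (0 : V)), span_zero_singleton] at h1
      rw [← h1, finrank_bot] at h2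
      omega⟩)
  have hf : Function.Injective f := by
    rintro ⟨W, iv, h1⟩ ⟨W', iv', h1'⟩ he
    have h2 : iv = iv' := Prod.ext (congrArg (fun a => a.1) he) (congrArg (fun a => a.2.1) he)
    subst h2
    obtain rfl : W = W' := Subtype.ext (h1.symm.trans h1')
    rfl
  have hle := Nat.card_le_card_of_injective f hf
  rw [Nat.card_prod, card_nonzero hn, Nat.card_sigma] at hle
  refine le_trans ?_ hle
  calc Nat.card (Plane p V) * m = ∑ _W : Plane p V, m := by
        rw [Finset.sum_const, Finset.card_univ, Nat.card_eq_fintype_card, smul_eq_mul]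
    _ ≤ _ := Finset.sum_le_sum fun W _ => h W

end Cfsg.Agent.PlaneTransitive
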