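/-
A group transitive on 1- and 2-subspaces with a non-scalar abelian normal subgroup normalizes a field acting
regularly on the vectors.

Main results (namespace `Cfsg.Agent.PlaneTransitive`): `Setup`, `scalars`, `Setup.exists_field`
-/
import Cfsg.Agent.Lib.PlaneTransitive.Count
import Mathlib.RingTheory.IntegralDomain
import Mathlib.RingTheory.Adjoin.Basic

set_option autoImplicit false

namespace Cfsg.Agent.PlaneTransitive

open Module Submodule

variable {p : ℕ} [hp : Fact p.Prime] {V : Type*} [AddCommGroup V] [Module (ZMod p) V] [Finite V]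
  {X : Type*} [Group X]

/-- A group transitive on points and on planes. -/
structure Setup (ρ : X →* (V ≃ₗ[ZMod p] V)) : Prop where
  inj : Function.Injective ρ
  three : 3 ≤ finrank (ZMod p) V
  points : ∀ v w : V, v ≠ 0 → w ≠ 0 → ∃ x, ∃ c : ZMod p, ρ x v = c • w
  planes : ∀ W W' : Plane p V, ∃ x, W.1.map (ρ x : V →ₗ[ZMod p] V) = W'.1

/-- The element as an endomorphism. -/
def endo (ρ : X →* (V ≃ₗ[ZMod p] V)) : X →* Module.End (ZMod p) V where
  toFun x := (ρ x : V →ₗ[ZMod p] V)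
  map_one' := by rw [map_one]; rfl
  map_mul' x y := by rw [map_mul]; rfl

theorem endo_apply (ρ : X →* (V ≃ₗ[ZMod p] V)) (x : X) (v : V) : endo ρ x v = ρ x v := rfl

theorem endo_mul_inv (ρ : X →* (V ≃ₗ[ZMod p] V)) (x : X) : endo ρ x * endo ρ x⁻¹ = 1 := by
  rw [← map_mul, mul_inv_cancel, map_one]

theorem endo_inv_mul (ρ : X →* (V ≃ₗ[ZMod p] V)) (x : X) : endo ρ x⁻¹ * endo ρ x = 1 := by
  rw [← map_mul, inv_mul_cancel, map_one]

/-- `x` acts as a scalar. -/
def IsScalar (ρ : X →* (V ≃ₗ[ZMod p] V)) (x : X) : Prop := ∃ c : ZMod p, ∀ v, ρ x v = c • v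

namespace Setup

variable {ρ : X →* (V ≃ₗ[ZMod p] V)} (S : Setup ρ)
include S

theorem nontrivial : Nontrivial V := by
  haveI : Module.Finite (ZMod p) V := Module.Finite.of_finite
  exact Module.nontrivial_of_finrank_pos (R := ZMod p) (by have := S.three; omega)

theorem exists_field (A : Subgroup X) [hA : A.Normal] (hcomm : ∀ a ∈ A, ∀ b ∈ A, a * b = b * a)
    {a : X} (ha : a ∈ A) (hns : ¬ IsScalar ρ a) :
    ∃ (R : Subalgebra (ZMod p) (Module.End (ZMod p) V)) (v₀ : V),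
      (∀ r ∈ R, ∀ s ∈ R, r * s = s * r) ∧ Function.Bijective (fun r : R => (r : Module.End (ZMod p) V) v₀) ∧
      (∀ r ∈ R, r ≠ 0 → Function.Injective r) ∧
      ∀ x, ∀ r ∈ R, endo ρ x * r * endo ρ x⁻¹ ∈ R := by
  haveI := S.nontrivial
  haveI : Module.Finite (ZMod p) V := Module.Finite.of_finite
  set R := Algebra.adjoin (ZMod p) (endo ρ '' (A : Set X)) with hR
  have hgen : ∀ b ∈ A, endo ρ b ∈ R := fun b hb => Algebra.subset_adjoin ⟨b, hb, rfl⟩
  have hRc : ∀ r ∈ R, ∀ s ∈ R, r * s = s * r := by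
    intro r hr s hs
    have h1 : ∀ b ∈ A, ∀ t ∈ R, endo ρ b * t = t * endo ρ b := by
      intro b hb t ht
      refine Algebra.adjoin_induction ?_ ?_ ?_ ?_ ht
      · rintro _ ⟨c, hc, rfl⟩
        rw [← map_mul, ← map_mul, hcomm b hb c hc]
      · intro c
        exact (Algebra.commutes c (endo ρ b)).symm
      · intro x y _ _ hx hy
        rw [mul_add, add_mul, hx, hy]
      · intro x y _ _ hx hy
        rw [← mul_assoc, hx, mul_assoc, hy, mul_assoc]
    refine Algebra.adjoin_induction ?_ ?_ ?_ ?_ hr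
    · rintro _ ⟨c, hc, rfl⟩
      exact h1 c hc s hs
    · intro c
      exact Algebra.commutes c s
    · intro x y _ _ hx hy
      rw [mul_add, add_mul, hx, hy]
    · intro x y _ _ hx hy
      rw [mul_assoc, hy, ← mul_assoc, hx, mul_assoc]
  have hnorm : ∀ x, ∀ r ∈ R, endo ρ x * r * endo ρ x⁻¹ ∈ R := by
    intro x r hr
    refine Algebra.adjoin_induction ?_ ?_ ?_ ?_ hr
    · rintro _ ⟨c, hc, rfl⟩
      rw [← map_mul, ← map_mul]
      exact hgen _ (hA.conj_mem c hc x)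
    · intro c
      rw [← Algebra.commutes c (endo ρ x), mul_assoc, endo_mul_inv, mul_one]
      exact R.algebraMap_mem c
    · intro y z _ _ hy hz
      rw [mul_add, add_mul]
      exact R.add_mem hy hz
    · intro y z _ _ hy hz
      have e : endo ρ x * (y * z) * endo ρ x⁻¹ = (endo ρ x * y * endo ρ x⁻¹) * (endo ρ x * z * endo ρ x⁻¹) := by
        rw [mul_assoc (endo ρ x * y), ← mul_assoc (endo ρ x⁻¹), ← mul_assoc (endo ρ x⁻¹), endo_inv_mul, one_mul,
          mul_assoc, mul_assoc, mul_assoc]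
      rw [e]
      exact R.mul_mem hy hz
  -- orbits `R v`
  let O : V → Submodule (ZMod p) V := fun v => R.toSubmodule.map (LinearMap.applyₗ v)
  have hO : ∀ v w, w ∈ O v ↔ ∃ r ∈ R, r v = w := fun v w => Submodule.mem_map
  have hself : ∀ v, v ∈ O v := fun v => (hO v v).2 ⟨1, R.one_mem, rfl⟩
  have htrans : ∀ v w, w ∈ O v → O w ≤ O v := by
    intro v w hw z hz
    obtain ⟨r, hr, rfl⟩ := (hO v w).1 hw
    obtain ⟨s, hs, rfl⟩ := (hO _ z).1 hz
    exact (hO v _).2 ⟨s * r, R.mul_mem hs hr, rfl⟩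
  have hsmul : ∀ v (c : ZMod p), c ≠ 0 → O (c • v) = O v := fun v c hc => le_antisymm
    (htrans v _ ((O v).smul_mem c (hself v)))
    (htrans (c • v) v (by simpa [smul_smul, inv_mul_cancel₀ hc] using (O (c • v)).smul_mem c⁻¹ (hself (c • v))))
  have hmove : ∀ x v, (O v).map (ρ x : V →ₗ[ZMod p] V) = O (ρ x v) := by
    intro x v
    ext z
    constructor
    · rintro ⟨y, hy, rfl⟩
      obtain ⟨r, hr, rfl⟩ := (hO v y).1 hy
      refine (hO _ _).2 ⟨_, hnorm x r hr, ?_⟩
      simp [Module.End.mul_apply, endo_apply, map_inv]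
    · intro hz
      obtain ⟨r, hr, rfl⟩ := (hO _ _).1 hz
      refine ⟨_, (hO v _).2 ⟨_, hnorm x⁻¹ r hr, rfl⟩, ?_⟩
      simp [Module.End.mul_apply, endo_apply, map_inv]
  have hrank : ∀ v w, v ≠ 0 → w ≠ 0 → finrank (ZMod p) (O v) = finrank (ZMod p) (O w) := by
    intro v w hv hw
    obtain ⟨x, c, hc⟩ := S.points v w hv hw
    have hc0 : c ≠ 0 := fun h => hv (by rw [h, zero_smul, LinearEquiv.map_eq_zero_iff] at hc; exact hc)
    rw [← hsmul w c hc0, ← hc, ← hmove x v, LinearEquiv.finrank_map_eq]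
  have hmin : ∀ v w, w ∈ O v → w ≠ 0 → O w = O v := by
    intro v w hw hw0
    have hv0 : v ≠ 0 := fun h => by
      obtain ⟨r, -, rfl⟩ := (hO v w).1 hw
      exact hw0 (by rw [h, map_zero])
    exact eq_of_le_of_finrank_eq (htrans v w hw) (hrank w v hw0 hv0)
  have hinj : ∀ r ∈ R, ∀ v, v ≠ 0 → r v = 0 → r = 0 := by
    intro r hr v hv hrv
    refine LinearMap.ext fun w => ?_
    rw [LinearMap.zero_apply]
    by_cases hw : w ∈ O v
    · obtain ⟨s, hs, rfl⟩ := (hO v w).1 hw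
      rw [← Module.End.mul_apply, hRc r hr s hs, Module.End.mul_apply, hrv, map_zero]
    by_contra hrw
    have h1 : r w ∈ O w := (hO _ _).2 ⟨r, hr, rfl⟩
    have h2 : r w ∈ O (v + w) := (hO _ _).2 ⟨r, hr, by rw [map_add, hrv, zero_add]⟩
    have h3 : O w = O (v + w) := (hmin w _ h1 hrw).symm.trans (hmin (v + w) _ h2 hrw)
    have h4 : v ∈ O w := by
      have := (O w).sub_mem (h3 ▸ hself (v + w)) (hself w)
      simpa using this
    exact hw (hmin w v h4 hv ▸ hself w)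
  obtain ⟨v₀, hv₀⟩ := exists_ne (0 : V)
  have hav : ∀ c : ZMod p, ρ a v₀ ≠ c • v₀ := fun c hc => hns ⟨c, fun v => by
    have h := hinj (endo ρ a - algebraMap (ZMod p) _ c) (R.sub_mem (hgen a ha) (R.algebraMap_mem c)) v₀ hv₀
      (by rw [LinearMap.sub_apply, endo_apply, Module.algebraMap_end_apply, hc, sub_self])
    have h' := LinearMap.congr_fun h v
    rwa [LinearMap.sub_apply, endo_apply, Module.algebraMap_end_apply, LinearMap.zero_apply, sub_eq_zero] at h'⟩
  have htop : ∀ w, w ∈ O v₀ := by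
    by_contra hh
    push Not at hh
    obtain ⟨w, hw⟩ := hh
    have hw' : ∀ c : ZMod p, w ≠ c • v₀ := fun c hc => hw (hc ▸ (O v₀).smul_mem c (hself v₀))
    obtain ⟨x, hx⟩ := S.planes ⟨_, finrank_span_pair hv₀ hav⟩ ⟨_, finrank_span_pair hv₀ hw'⟩
    change (span (ZMod p) ({v₀, ρ a v₀} : Set V)).map (ρ x : V →ₗ[ZMod p] V) = span (ZMod p) {v₀, w} at hx
    have hle : span (ZMod p) ({v₀, w} : Set V) ≤ O (ρ x v₀) := by
      rw [← hmove, ← hx]
      refine Submodule.map_mono (span_le.2 (Set.insert_subset (hself v₀) (Set.singleton_subset_iff.2 ?_)))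
      exact (hO _ _).2 ⟨_, hgen a ha, rfl⟩
    have h1 := hle (subset_span (Set.mem_insert v₀ _))
    exact hw (hmin _ v₀ h1 hv₀ ▸ hle (subset_span (Set.mem_insert_of_mem _ rfl)))
  refine ⟨R, v₀, hRc, ⟨fun r s hrs => Subtype.ext ?_, fun w => ?_⟩, fun r hr hr0 v w hvw => ?_, hnorm⟩
  · exact sub_eq_zero.1 (hinj _ (R.sub_mem r.2 s.2) v₀ hv₀ (by rw [LinearMap.sub_apply, sub_eq_zero]; exact hrs))
  · obtain ⟨r, hr, hrw⟩ := (hO _ _).1 (htop w)
    exact ⟨⟨r, hr⟩, hrw⟩
  · by_contra hne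
    exact hr0 (hinj r hr (v - w) (sub_ne_zero.2 hne) (by rw [map_sub, hvw, sub_self]))

end Setup

end Cfsg.Agent.PlaneTransitive
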