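/-
A solvable group transitive on 1- and 2-subspaces (dimension at least 3) has a non-scalar abelian normal subgroup.

Main result (namespace `Cfsg.Agent.PlaneTransitive`): `Setup.exists_nonscalar_abelian`
-/
import Cfsg.Agent.Lib.PlaneTransitive.Field
import Cfsg.Agent.Lib.Solvable.Basic
import Cfsg.Agent.Lib.CyclicSylowAbelian.CaseNontrivial
import Mathlib.LinearAlgebra.Dual.Lemmas
import Mathlib.LinearAlgebra.FreeModule.Finite.Matrix
import Mathlib.LinearAlgebra.Determinant

set_option autoImplicit false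

namespace Cfsg.Agent.PlaneTransitive

open Module

variable {p : ℕ} [hp : Fact p.Prime] {V : Type*} [AddCommGroup V] [Module (ZMod p) V] [Finite V]
  {X : Type*} [Group X]

theorem linearEquiv_one_apply (v : V) : (1 : V ≃ₗ[ZMod p] V) v = v := rfl

theorem exists_not_eigen {f : Module.End (ZMod p) V} (h : ¬ ∃ c : ZMod p, ∀ v, f v = c • v) :
    ∃ v, v ≠ 0 ∧ ∀ c : ZMod p, f v ≠ c • v := by
  by_contra hh
  push Not at hh
  refine h ?_
  by_cases h0 : ∀ v : V, v = 0
  · exact ⟨0, fun v => by rw [h0 v, map_zero, smul_zero]⟩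
  push Not at h0
  obtain ⟨v₀, hv₀⟩ := h0
  obtain ⟨c, hc⟩ := hh v₀ hv₀
  refine ⟨c, fun w => ?_⟩
  by_cases hw : ∃ a : ZMod p, w = a • v₀
  · obtain ⟨a, rfl⟩ := hw
    rw [map_smul, hc, smul_comm]
  push Not at hw
  have hw0 : w ≠ 0 := fun e => hw 0 (by rw [e, zero_smul])
  obtain ⟨d, hd⟩ := hh w hw0
  obtain ⟨e, he⟩ := hh (v₀ + w) fun h' => hw (-1) (by rw [neg_one_smul]; exact eq_neg_of_add_eq_zero_right h')
  rw [map_add, hc, hd, smul_add] at he
  have hde : d = e := by
    by_contra hne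
    refine hw ((d - e)⁻¹ * (e - c)) ?_
    calc w = (d - e)⁻¹ • ((d - e) • w) := by rw [smul_smul, inv_mul_cancel₀ (sub_ne_zero.2 hne), one_smul]
      _ = ((d - e)⁻¹ * (e - c)) • v₀ := by
          rw [← smul_smul]
          congr 1
          rw [sub_smul, sub_smul]
          exact sub_eq_sub_iff_add_eq_add.2 (by rw [add_comm (d • w)]; exact he)
  subst hde
  have hce : c = d := by
    by_contra hne
    exact hv₀ ((smul_eq_zero.1 (show (c - d) • v₀ = 0 by rw [sub_smul, sub_eq_zero]; exact add_right_cancel he)).resolve_left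
      (sub_ne_zero.2 hne))
  rw [hd, hce]

/-- The scalar elements. -/
def scalars (ρ : X →* (V ≃ₗ[ZMod p] V)) : Subgroup X where
  carrier := {x | IsScalar ρ x}
  one_mem' := ⟨1, fun v => by rw [map_one, linearEquiv_one_apply, one_smul]⟩
  mul_mem' := fun {a b} ⟨c, hc⟩ ⟨d, hd⟩ => ⟨c * d, fun v => by
    rw [map_mul, LinearEquiv.mul_apply, hd, map_smul, hc, smul_smul, mul_comm]⟩
  inv_mem' := fun {a} ⟨c, hc⟩ => ⟨c⁻¹, fun v => by
    have h : v = c • (ρ a⁻¹ v) := by
      rw [← hc, ← LinearEquiv.mul_apply, ← map_mul, mul_inv_cancel, map_one, linearEquiv_one_apply]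
    rcases eq_or_ne c 0 with rfl | hc0
    · rw [zero_smul] at h
      rw [h, map_zero, inv_zero, zero_smul]
    · conv_rhs => rw [h]
      rw [smul_smul, inv_mul_cancel₀ hc0, one_smul]⟩

instance scalars_normal (ρ : X →* (V ≃ₗ[ZMod p] V)) : (scalars ρ).Normal :=
  ⟨fun x ⟨c, hc⟩ g => ⟨c, fun v => by
    rw [map_mul, map_mul, LinearEquiv.mul_apply, LinearEquiv.mul_apply, hc, map_smul, ← LinearEquiv.mul_apply,
      ← map_mul, mul_inv_cancel, map_one, linearEquiv_one_apply]⟩⟩

namespace Setup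

variable {ρ : X →* (V ≃ₗ[ZMod p] V)} (S : Setup ρ)
include S

theorem plane_dvd [Finite X] : Nat.card (Plane p V) ∣ Nat.card X := by
  classical
  haveI : Finite (Submodule (ZMod p) V) := Finite.of_injective _ SetLike.coe_injective
  letI : MulAction X (Plane p V) :=
    { smul := fun x W => ⟨W.1.map (ρ x : V →ₗ[ZMod p] V), by rw [LinearEquiv.finrank_map_eq, W.2]⟩
      one_smul := fun W => Subtype.ext (by
        show W.1.map (ρ 1 : V →ₗ[ZMod p] V) = W.1
        rw [map_one]; exact Submodule.map_id W.1)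
      mul_smul := fun x y W => Subtype.ext (by
        show W.1.map (ρ (x * y) : V →ₗ[ZMod p] V) = (W.1.map (ρ y : V →ₗ[ZMod p] V)).map (ρ x : V →ₗ[ZMod p] V)
        rw [map_mul, ← Submodule.map_comp]; rfl) }
  by_cases hne : IsEmpty (Plane p V)
  · haveI : Module.Finite (ZMod p) V := Module.Finite.of_finite
    have h := card_plane_mul (p := p) (V := V) rfl (by have := S.three; omega)
    rw [Nat.card_of_isEmpty, zero_mul] at h
    have h1 : p ^ finrank (ZMod p) V - 1 ≠ 0 :=
      Nat.sub_ne_zero_of_lt (Nat.one_lt_pow (by have := S.three; omega) hp.out.one_lt)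
    have h2 : p ^ finrank (ZMod p) V - p ≠ 0 := by
      refine Nat.sub_ne_zero_of_lt ?_
      calc p = p ^ 1 := (pow_one p).symm
        _ < p ^ finrank (ZMod p) V := Nat.pow_lt_pow_right hp.out.one_lt (by have := S.three; omega)
    exact absurd h.symm (mul_ne_zero h1 h2)
  · obtain ⟨W⟩ := not_isEmpty_iff.1 hne
    have hall : MulAction.orbit X W = Set.univ := Set.eq_univ_of_forall fun W' => by
      obtain ⟨x, hx⟩ := S.planes W W'
      exact ⟨x, Subtype.ext hx⟩
    refine ⟨Nat.card (MulAction.stabilizer X W), ?_⟩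
    rw [← Nat.card_congr (MulAction.orbitProdStabilizerEquivGroup X W), Nat.card_prod, hall,
      Nat.card_congr (Equiv.Set.univ _)]

theorem exists_nonscalar : ∃ x, ¬ IsScalar ρ x := by
  by_contra hh
  push Not at hh
  haveI := S.nontrivial
  haveI : Module.Finite (ZMod p) V := Module.Finite.of_finite
  obtain ⟨v, hv⟩ := exists_ne (0 : V)
  have htop : ∀ w : V, w ∈ Submodule.span (ZMod p) ({v} : Set V) := fun w => by
    by_cases hw : w = 0
    · rw [hw]; exact Submodule.zero_mem _
    obtain ⟨x, c, hx⟩ := S.points v w hv hw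
    obtain ⟨d, hd⟩ := hh x
    have hc : c ≠ 0 := fun h => hv (by rw [h, zero_smul, LinearEquiv.map_eq_zero_iff] at hx; exact hx)
    rw [hd] at hx
    refine Submodule.mem_span_singleton.2 ⟨c⁻¹ * d, ?_⟩
    rw [← smul_smul, hx, smul_smul, inv_mul_cancel₀ hc, one_smul]
  have h1 := finrank_span_singleton (K := ZMod p) hv
  rw [Submodule.eq_top_iff'.2 htop, finrank_top] at h1
  have := S.three
  omega

theorem scalar_comm {z : X} (hz : z ∈ scalars ρ) (g : X) : z * g = g * z := by
  obtain ⟨c, hc⟩ := hz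
  refine S.inj (LinearEquiv.ext fun v => ?_)
  rw [map_mul, map_mul, LinearEquiv.mul_apply, LinearEquiv.mul_apply, hc, hc, map_smul]

theorem eq_one_of_pow {z : X} (hz : z ∈ scalars ρ) {t : ℕ} (ht : Nat.Coprime t (p - 1)) (hzt : z ^ t = 1) :
    z = 1 := by
  haveI := S.nontrivial
  obtain ⟨c, hc⟩ := hz
  obtain ⟨v, hv⟩ := exists_ne (0 : V)
  have hpow : ∀ k : ℕ, ρ (z ^ k) v = c ^ k • v := by
    intro k
    induction k with
    | zero => rw [pow_zero, map_one, pow_zero, one_smul]; rfl
    | succ k ih => rw [pow_succ', map_mul, LinearEquiv.mul_apply, ih, map_smul, hc, smul_smul, pow_succ]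
  have h1 : c ^ t = 1 := smul_left_injective (ZMod p) hv (by
    show c ^ t • v = (1 : ZMod p) • v
    rw [← hpow, hzt, map_one, one_smul]; rfl)
  have hc0 : c ≠ 0 := fun h => hv (by
    have h' := hc v
    rw [h, zero_smul, LinearEquiv.map_eq_zero_iff] at h'; exact h')
  have hc1 : c = 1 := orderOf_eq_one_iff.1 (Nat.eq_one_of_dvd_coprimes ht (orderOf_dvd_of_pow_eq_one h1)
    (ZMod.orderOf_dvd_card_sub_one hc0))
  exact S.inj (LinearEquiv.ext fun w => by rw [hc, hc1, one_smul, map_one]; rfl)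

/-- An element of prime order acting on a section with few possible fixed-point counts centralizes it. -/
theorem centralizes [Finite X] {M : Subgroup X} [M.Normal] (hZM : scalars ρ ≤ M) {s t : ℕ} [hs : Fact s.Prime]
    [ht : Fact t.Prime] (hst : t ≠ s) (htp : Nat.Coprime t (p - 1)) {k : ℕ}
    (hk : Nat.card (M.map (QuotientGroup.mk' (scalars ρ))) = s ^ k) (hpow : ∀ u ∈ M, u ^ s ∈ scalars ρ)
    (hdist : ∀ i, i < k → ¬ s ^ i ≡ s ^ k [MOD t]) {g : X} (hg : g ^ t = 1) : ∀ u ∈ M, g * u = u * g := by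
  set π := QuotientGroup.mk' (scalars ρ)
  set Mb := M.map π
  haveI : Mb.Normal := Subgroup.Normal.map inferInstance π (QuotientGroup.mk'_surjective _)
  set F := Mb ⊓ Subgroup.centralizer ({π g} : Set (X ⧸ scalars ρ))
  have hmod := CyclicSylowAbelian.ncard_modEq_fixed (r := π g) (k := 1)
    (show π g ^ t ^ 1 = 1 by rw [pow_one, ← map_pow, hg, map_one]) (Mb : Set (X ⧸ scalars ρ))
    fun a ha => (inferInstance : Mb.Normal).conj_mem a ha _
  have e : {a ∈ (Mb : Set (X ⧸ scalars ρ)) | π g * a = a * π g} = (F : Set (X ⧸ scalars ρ)) := Set.ext fun a =>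
    ⟨fun h => ⟨h.1, Subgroup.mem_centralizer_singleton_iff.2 h.2.symm⟩,
     fun h => ⟨h.1, (Subgroup.mem_centralizer_singleton_iff.1 h.2).symm⟩⟩
  rw [e, ← Nat.card_coe_set_eq, ← Nat.card_coe_set_eq] at hmod
  change Nat.card Mb ≡ Nat.card F [MOD t] at hmod
  obtain ⟨i, hik, hi⟩ := (Nat.dvd_prime_pow hs.out).1 (hk ▸ Subgroup.card_dvd_of_le (inf_le_left : F ≤ Mb))
  rw [hk, hi] at hmod
  have hFM : F = Mb := by
    rcases eq_or_lt_of_le hik with h | h
    · exact Subgroup.eq_of_le_of_card_ge inf_le_left (by rw [hk, hi, h])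
    · exact absurd hmod.symm (hdist i h)
  intro u hu
  have hc : π g * π u = π u * π g :=
    (Subgroup.mem_centralizer_singleton_iff.1 ((inf_eq_left.1 hFM) (Subgroup.mem_map_of_mem π hu))).symm
  set z := g * u * g⁻¹ * u⁻¹ with hz
  have hzs : z ∈ scalars ρ := by
    rw [← QuotientGroup.eq_one_iff]
    change π z = 1
    rw [hz, map_mul, map_mul, map_mul, map_inv, map_inv, hc, mul_inv_cancel_right, mul_inv_cancel]
  have hpowg : ∀ j : ℕ, g ^ j * u * (g ^ j)⁻¹ = z ^ j * u := by
    intro j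
    induction j with
    | zero => simp
    | succ j ih =>
      calc g ^ (j + 1) * u * (g ^ (j + 1))⁻¹ = g * (g ^ j * u * (g ^ j)⁻¹) * g⁻¹ := by rw [pow_succ']; group
        _ = g * z ^ j * u * g⁻¹ := by rw [ih]; group
        _ = z ^ j * g * u * g⁻¹ := by rw [S.scalar_comm ((scalars ρ).pow_mem hzs j) g]
        _ = z ^ (j + 1) * u := by rw [pow_succ, hz]; group
  have hzt : z ^ t = 1 := by
    have h := hpowg t
    rwa [hg, one_mul, inv_one, mul_one, eq_comm, mul_eq_right] at h
  rw [← mul_inv_eq_iff_eq_mul, ← mul_inv_eq_one]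
  exact S.eq_one_of_pow hzs htp hzt

/-- No section of scalar-commutator type. -/
theorem exists_nonscalar_abelian [Finite X] [Group.IsSolvable X] :
    ∃ A : Subgroup X, A.Normal ∧ (∀ a ∈ A, ∀ b ∈ A, a * b = b * a) ∧ ∃ a ∈ A, ¬ IsScalar ρ a := by
  classical
  by_contra hh
  push Not at hh
  haveI := S.nontrivial
  haveI : Module.Finite (ZMod p) V := Module.Finite.of_finite
  set n := finrank (ZMod p) V with hn
  have hn3 : 3 ≤ n := S.three
  set Z := scalars ρ with hZ
  set π := QuotientGroup.mk' Z with hπ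
  obtain ⟨x₀, hx₀⟩ := S.exists_nonscalar
  haveI : Nontrivial (X ⧸ Z) := ⟨⟨π x₀, 1, fun h => hx₀ ((QuotientGroup.eq_one_iff _).1 h)⟩⟩
  obtain ⟨s, hs, Mb, hMbn, hMb1, -, hMbc, hMbp, hMbe, -⟩ :=
    Solvable.exists_minimal_normal_pGroup (G := X ⧸ Z) (N := ⊤) top_ne_bot
  haveI := Fact.mk hs
  set M := Mb.comap π with hM
  haveI : M.Normal := Subgroup.normal_comap π
  have hZM : Z ≤ M := fun z hz => by
    rw [hM, Subgroup.mem_comap, show π z = 1 from (QuotientGroup.eq_one_iff z).2 hz]; exact one_mem _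
  have hMmap : M.map π = Mb := Subgroup.map_comap_eq_self_of_surjective (QuotientGroup.mk'_surjective Z) _
  have hpow : ∀ u ∈ M, u ^ s ∈ Z := fun u hu => by
    rw [← QuotientGroup.eq_one_iff]; exact (map_pow π u s).trans (hMbe _ hu)
  have hcomm : ∀ u ∈ M, ∀ w ∈ M, w * u * w⁻¹ * u⁻¹ ∈ Z := fun u hu w hw => by
    rw [← QuotientGroup.eq_one_iff]
    change π (w * u * w⁻¹ * u⁻¹) = 1
    have e : π w * π u = π u * π w := congrArg Subtype.val (hMbc.is_comm.comm ⟨π w, hw⟩ ⟨π u, hu⟩)
    rw [map_mul, map_mul, map_mul, map_inv, map_inv, e, mul_inv_cancel_right, mul_inv_cancel]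
  -- the radical is `Z`
  have hrad : ∀ u ∈ M, u ∉ Z → ∃ w ∈ M, w * u ≠ u * w := by
    intro u hu huZ
    by_contra hc
    push Not at hc
    exact huZ (hh (M ⊓ Subgroup.centralizer (M : Set X)) inferInstance
      (fun a ha b hb => (Subgroup.mem_centralizer_iff.1 hb.2 a ha.1)) u
      ⟨hu, Subgroup.mem_centralizer_iff.2 hc⟩)
  -- scalar values
  have hsc : ∀ z : Z, ∃ c : ZMod p, endo ρ (z : X) = c • (1 : Module.End (ZMod p) V) := fun z => by
    obtain ⟨c, hc⟩ := z.2
    exact ⟨c, LinearMap.ext hc⟩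
  choose sc hsc using hsc
  have hsc0 : ∀ z : Z, sc z ≠ 0 := fun z hz => by
    obtain ⟨v, hv⟩ := exists_ne (0 : V)
    have h := LinearMap.congr_fun (hsc z) v
    rw [hz, zero_smul, LinearMap.zero_apply, endo_apply, LinearEquiv.map_eq_zero_iff] at h
    exact hv h
  have hscinj : ∀ z z' : Z, sc z = sc z' → z = z' := fun z z' h => Subtype.ext (S.inj (LinearEquiv.ext fun v => by
    have h1 := LinearMap.congr_fun (hsc z) v
    have h2 := LinearMap.congr_fun (hsc z') v
    rw [endo_apply] at h1 h2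
    rw [h1, h2, h]))
  have hzmul : ∀ (z : Z) (y : X), endo ρ ((z : X) * y) = sc z • endo ρ y := fun z y => by
    rw [map_mul, hsc, smul_mul_assoc, one_mul]
  let cm : ∀ u ∈ M, ∀ w ∈ M, Z := fun u hu w hw => ⟨w * u * w⁻¹ * u⁻¹, hcomm u hu w hw⟩
  have hconj : ∀ u (hu : u ∈ M) w (hw : w ∈ M),
      endo ρ w * endo ρ u * endo ρ w⁻¹ = sc (cm u hu w hw) • endo ρ u := fun u hu w hw => by
    rw [← map_mul, ← map_mul, ← hzmul]
    congr 1
    show w * u * w⁻¹ = w * u * w⁻¹ * u⁻¹ * u
    rw [inv_mul_cancel_right]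
  -- noncommuting pairs: `s ∣ n`, `s ∣ p - 1`
  have hne : ∃ u ∈ M, u ∉ Z := by
    by_contra hc
    push Not at hc
    refine hMb1 ((Subgroup.eq_bot_iff_forall _).2 fun a ha => ?_)
    obtain ⟨x, rfl⟩ := QuotientGroup.mk'_surjective Z a
    exact (QuotientGroup.eq_one_iff x).2 (hc x ha)
  obtain ⟨u₀, hu₀, hu₀Z⟩ := hne
  obtain ⟨w₀, hw₀, hne₀⟩ := hrad u₀ hu₀ hu₀Z
  set lam := sc (cm u₀ hu₀ w₀ hw₀) with hlam
  have hlam1 : lam ≠ 1 := fun h => hne₀ (by
    have h1 : endo ρ (w₀ * u₀ * w₀⁻¹) = endo ρ u₀ := by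
      rw [map_mul, map_mul, hconj u₀ hu₀ w₀ hw₀, ← hlam, h, one_smul]
    exact mul_inv_eq_iff_eq_mul.1 (S.inj (LinearEquiv.ext fun v => LinearMap.congr_fun h1 v)))
  have hlams : lam ^ s = 1 := by
    have hiter : ∀ j : ℕ, endo ρ (w₀ ^ j * u₀ * (w₀ ^ j)⁻¹) = lam ^ j • endo ρ u₀ := by
      intro j
      induction j with
      | zero => simp
      | succ j ih =>
        rw [show w₀ ^ (j + 1) * u₀ * (w₀ ^ (j + 1))⁻¹ = w₀ * (w₀ ^ j * u₀ * (w₀ ^ j)⁻¹) * w₀⁻¹ by
          rw [pow_succ']; group, map_mul, map_mul, ih, mul_smul_comm, smul_mul_assoc, hconj u₀ hu₀ w₀ hw₀,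
          smul_smul, ← pow_succ]
    have h1 := hiter s
    rw [S.scalar_comm (hpow w₀ hw₀) u₀, mul_inv_cancel_right] at h1
    obtain ⟨v, hv⟩ := exists_ne (0 : V)
    have h2 := LinearMap.congr_fun h1 v
    rw [LinearMap.smul_apply, endo_apply] at h2
    exact smul_left_injective (ZMod p) (fun h => hv (by simpa using h)) ((one_smul _ _).trans h2).symm
  have hlamo : orderOf lam = s := orderOf_eq_prime hlams hlam1
  have hsp : s ∣ p - 1 := hlamo ▸ ZMod.orderOf_dvd_card_sub_one (hsc0 _)
  have hsn : s ∣ n := by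
    rw [← hlamo]
    refine orderOf_dvd_of_pow_eq_one ?_
    have h1 := congrArg (fun f : Module.End (ZMod p) V => LinearMap.det f) (hconj u₀ hu₀ w₀ hw₀)
    simp only [map_mul, LinearMap.det_smul] at h1
    rw [← hlam, ← hn] at h1
    have hd : ∀ y : X, LinearMap.det (endo ρ y) * LinearMap.det (endo ρ y⁻¹) = 1 := fun y => by
      rw [← map_mul, endo_mul_inv, map_one]
    have hu0 : LinearMap.det (endo ρ u₀) ≠ 0 := left_ne_zero_of_mul_eq_one (hd u₀)
    have h2 : LinearMap.det (endo ρ u₀) * 1 = LinearMap.det (endo ρ u₀) * lam ^ n := by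
      rw [mul_comm _ (lam ^ n), ← h1, mul_comm (LinearMap.det (endo ρ w₀)), mul_assoc, hd w₀]
    exact (mul_left_cancel₀ hu0 h2).symm
  -- representatives
  have hrep : ∀ c : Mb, (c : X ⧸ Z).out ∈ M := fun c => by
    rw [hM, Subgroup.mem_comap, show π (c : X ⧸ Z).out = (c : X ⧸ Z) from QuotientGroup.out_eq' _]
    exact c.2
  let r : Mb → X := fun c => (c : X ⧸ Z).out
  have hr : ∀ c : Mb, π (r c) = (c : X ⧸ Z) := fun c => QuotientGroup.out_eq' _
  have hsep : ∀ c d : Mb, c ≠ d → ∃ w, ∃ hw : w ∈ M, sc (cm (r c) (hrep c) w hw) ≠ sc (cm (r d) (hrep d) w hw) := by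
    intro c d hcd
    obtain ⟨w, hw, hwne⟩ := hrad ((r c)⁻¹ * r d) (M.mul_mem (M.inv_mem (hrep c)) (hrep d)) fun h => hcd (Subtype.ext (by
      rw [← hr c, ← hr d]
      exact QuotientGroup.eq.2 h))
    refine ⟨w, hw, fun h => hwne ?_⟩
    have h' := congrArg Subtype.val (hscinj _ _ h)
    change w * r c * w⁻¹ * (r c)⁻¹ = w * r d * w⁻¹ * (r d)⁻¹ at h'
    set z := w * r c * w⁻¹ * (r c)⁻¹ with hz
    have hzZ : z ∈ Z := hcomm _ (hrep c) w hw
    calc w * ((r c)⁻¹ * r d) = ((z * r c)⁻¹ * (w * r d * w⁻¹ * (r d)⁻¹ * r d)) * w := by rw [hz]; group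
      _ = ((r c)⁻¹ * r d) * w := by rw [← h']; group
  have hli : LinearIndependent (ZMod p) (fun c : Mb => endo ρ (r c)) := by
    rw [linearIndependent_iff']
    intro T
    induction T using Finset.induction with
    | empty => simp
    | @insert c₀ T hc₀ ih =>
      intro a ha
      rw [Finset.sum_insert hc₀] at ha
      have hT : ∀ c ∈ T, a c = 0 := by
        intro c hc
        obtain ⟨w, hw, hwne⟩ := hsep c c₀ fun h => hc₀ (h ▸ hc)
        set μ : Mb → ZMod p := fun d => sc (cm (r d) (hrep d) w hw)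
        have hcw : ∀ d : Mb, endo ρ w * (a d • endo ρ (r d)) * endo ρ w⁻¹ = (μ d * a d) • endo ρ (r d) := fun d => by
          rw [mul_smul_comm, smul_mul_assoc, hconj _ (hrep d) w hw, smul_smul, mul_comm]
        have h1 : (μ c₀ * a c₀) • endo ρ (r c₀) + ∑ d ∈ T, (μ d * a d) • endo ρ (r d) = 0 := by
          rw [← hcw, ← Finset.sum_congr rfl (fun d _ => hcw d), ← Finset.sum_mul, ← Finset.mul_sum, ← add_mul,
            ← mul_add, ha, mul_zero, zero_mul]
        have h2 : ∑ d ∈ T, ((μ d - μ c₀) * a d) • endo ρ (r d) = 0 := by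
          have h3 : μ c₀ • (a c₀ • endo ρ (r c₀)) + μ c₀ • ∑ d ∈ T, a d • endo ρ (r d) = 0 := by
            rw [← smul_add, ha, smul_zero]
          rw [Finset.smul_sum, smul_smul] at h3
          simp only [smul_smul] at h3
          simp only [sub_mul, sub_smul]
          rw [Finset.sum_sub_distrib, sub_eq_zero]
          exact add_left_cancel (h1.trans h3.symm)
        exact (mul_eq_zero.1 (ih _ h2 c hc)).resolve_left (sub_ne_zero.2 hwne)
      intro c hc
      rcases Finset.mem_insert.1 hc with rfl | hc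
      · rw [Finset.sum_eq_zero (fun d hd => by rw [hT d hd, zero_smul]), add_zero, smul_eq_zero] at ha
        exact ha.resolve_right fun h => by
          have h' := endo_mul_inv ρ (r c)
          rw [h, zero_mul] at h'
          exact zero_ne_one h'
      · exact hT c hc
  haveI := Fintype.ofFinite Mb
  have hcardle : Nat.card Mb ≤ n * n := by
    rw [Nat.card_eq_fintype_card, hn, ← Module.finrank_linearMap (R := ZMod p) (S := ZMod p) (M := V) (N := V)]
    exact hli.fintype_card_le_finrank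
  obtain ⟨k, hk⟩ := hMbp.exists_card_eq
  -- every plane is spanned by some `v` and `r c v`
  let ι := {c : Mb // c ≠ 1}
  let uu : ι → Module.End (ZMod p) V := fun c => endo ρ (r c.1)
  have hι : Nat.card ι = Nat.card Mb - 1 := by
    rw [show Nat.card ι = ({1}ᶜ : Set Mb).ncard from (Nat.card_coe_set_eq _).symm ▸ rfl, Set.ncard_compl,
      Set.ncard_singleton]
  have hcover : ∀ W : Plane p V, ∃ c : ι, ∃ v : V, v ∈ W.1 ∧ uu c v ∈ W.1 ∧ v ≠ 0 ∧ ∀ e : ZMod p, uu c v ≠ e • v := by
    intro W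
    obtain ⟨v₁, hv₁, hv₁e⟩ := exists_not_eigen (f := endo ρ u₀) hu₀Z
    obtain ⟨g, hg⟩ := S.planes ⟨_, finrank_span_pair hv₁ hv₁e⟩ W
    change (Submodule.span (ZMod p) ({v₁, endo ρ u₀ v₁} : Set V)).map (ρ g : V →ₗ[ZMod p] V) = W.1 at hg
    set u := g * u₀ * g⁻¹
    have huM : u ∈ M := (inferInstance : M.Normal).conj_mem u₀ hu₀ g
    set c : Mb := ⟨π u, huM⟩
    have hc1 : c ≠ 1 := fun h => hu₀Z (by
      have h1 : u ∈ Z := (QuotientGroup.eq_one_iff u).1 (congrArg Subtype.val h)
      have h2 := (scalars_normal ρ).conj_mem u h1 g⁻¹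
      rwa [show g⁻¹ * u * g⁻¹⁻¹ = u₀ by simp only [u]; group] at h2)
    have hdz : u * (r c)⁻¹ ∈ Z := by
      rw [← QuotientGroup.eq_one_iff]
      change π (u * (r c)⁻¹) = 1
      rw [map_mul, map_inv, hr, mul_inv_cancel]
    set μ := sc ⟨_, hdz⟩
    have hu : endo ρ u = μ • endo ρ (r c) := by
      rw [← hzmul]; congr 1; show u = u * (r c)⁻¹ * r c; rw [inv_mul_cancel_right]
    have hgu : ρ g (endo ρ u₀ v₁) = μ • uu ⟨c, hc1⟩ (ρ g v₁) := by
      rw [← LinearMap.smul_apply, show μ • uu ⟨c, hc1⟩ = endo ρ u from hu.symm, endo_apply, endo_apply,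
        ← LinearEquiv.mul_apply, ← LinearEquiv.mul_apply, ← map_mul, ← map_mul,
        show g * u₀ = u * g by simp only [u]; group]
    have hmem1 : ρ g v₁ ∈ W.1 := hg ▸ Submodule.mem_map_of_mem (Submodule.subset_span (Set.mem_insert v₁ _))
    refine ⟨⟨c, hc1⟩, ρ g v₁, hmem1, ?_, fun h => hv₁ ((LinearEquiv.map_eq_zero_iff _).1 h), fun e he => ?_⟩
    · have h1 : ρ g (endo ρ u₀ v₁) ∈ W.1 :=
        hg ▸ Submodule.mem_map_of_mem (Submodule.subset_span (Set.mem_insert_of_mem _ rfl))
      have h2 := W.1.smul_mem μ⁻¹ h1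
      rwa [hgu, smul_smul, inv_mul_cancel₀ (hsc0 _), one_smul] at h2
    · refine hv₁e (μ * e) ((ρ g).injective ?_)
      rw [hgu, map_smul, he, smul_smul]
  have hform := card_plane_mul (p := p) (V := V) hn.symm (by omega)
  have hdvd := S.plane_dvd
  set P := Nat.card (Plane p V)
  have hp2 : 2 ≤ p := hp.out.two_le
  have hpn1 : 1 ≤ p ^ (n - 1) := Nat.one_le_pow _ _ hp.out.pos
  have e1 : (p ^ n - p) = (p ^ (n - 1) - 1) * p := by
    rw [Nat.sub_mul, one_mul, ← pow_succ, show n - 1 + 1 = n by omega]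
  have e2 : p ^ 2 - p = (p - 1) * p := by rw [Nat.sub_mul, one_mul, pow_two]
  -- the count gives `p^(n-1) - 1 ≤ (n^2 - 1) (p^2 - 1)`
  have hb1 : p ^ (n - 1) - 1 ≤ (n * n - 1) * (p ^ 2 - 1) := by
    have hcount : P * (p - 1) ≤ Nat.card ι * (p ^ n - 1) := by
      refine plane_count_le hn.symm uu (p - 1) fun W => ?_
      obtain ⟨c, v, hv, huv, hv0, hne⟩ := hcover W
      let f : (ZMod p)ˣ → {iv : ι × V // Submodule.span (ZMod p) {iv.2, uu iv.1 iv.2} = W.1} := fun a =>
        ⟨(c, (a : ZMod p) • v), span_pair_eq W.2 (W.1.smul_mem _ hv)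
          (by rw [map_smul]; exact W.1.smul_mem _ huv) (smul_ne_zero a.ne_zero hv0) fun e he => hne e (by
            rw [map_smul, smul_comm e] at he
            exact smul_right_injective V a.ne_zero he)⟩
      have hf : Function.Injective f := fun a b h => Units.ext (smul_left_injective (ZMod p) hv0
        (congrArg (fun x => x.1.2) h))
      have h := Nat.card_le_card_of_injective f hf
      rwa [Nat.card_eq_fintype_card, ZMod.card_units] at h
    have h1 : Nat.card ι ≤ n * n - 1 := by omega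
    have h2 : (p ^ n - 1) * ((p ^ (n - 1) - 1) * p * (p - 1)) ≤ (p ^ n - 1) * ((n * n - 1) * (p ^ 2 - 1) * p * (p - 1)) := by
      calc (p ^ n - 1) * ((p ^ (n - 1) - 1) * p * (p - 1))
          = (P * (p - 1)) * ((p ^ 2 - 1) * (p ^ 2 - p)) := by rw [← e1, ← mul_assoc, ← hform]; ring
        _ ≤ ((n * n - 1) * (p ^ n - 1)) * ((p ^ 2 - 1) * (p ^ 2 - p)) :=
            Nat.mul_le_mul_right _ (hcount.trans (Nat.mul_le_mul_right _ h1))
        _ = (p ^ n - 1) * ((n * n - 1) * (p ^ 2 - 1) * p * (p - 1)) := by rw [e2]; ring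
    have hpos : 0 < p ^ n - 1 := Nat.sub_pos_of_lt (Nat.one_lt_pow (by omega) hp.out.one_lt)
    exact Nat.le_of_mul_le_mul_right (Nat.le_of_mul_le_mul_right (Nat.le_of_mul_le_mul_left h2 hpos) (by omega)) hp.out.pos
  have hsne : p ≠ 2 := fun h => by
    rw [h] at hsp
    exact hs.ne_one (Nat.dvd_one.1 hsp)
  by_cases hs2 : s = 2
  · subst hs2
    have hn4 : 4 ≤ n := by omega
    -- refined count
    have hb2 : p ^ (n - 1) - 1 ≤ (n * n - 1) * (p + 1) := by
      have hcount : P * ((p - 1) * (p - 1)) ≤ Nat.card ι * (p ^ n - 1) := by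
        refine plane_count_le hn.symm uu _ fun W => ?_
        obtain ⟨c, v, hv, huv, hv0, hne⟩ := hcover W
        set γ := sc ⟨_, hpow (r c.1) (hrep c.1)⟩
        have hsq : ∀ x, uu c (uu c x) = γ • x := fun x => by
          have h : uu c * uu c = γ • (1 : Module.End (ZMod p) V) := by
            rw [← hsc ⟨_, hpow (r c.1) (hrep c.1)⟩]
            show endo ρ (r c.1) * endo ρ (r c.1) = endo ρ (r c.1 ^ 2)
            rw [← map_mul, pow_two]
          exact LinearMap.congr_fun h x
        have hind : ∀ a b : ZMod p, a • v + b • uu c v = 0 → a = 0 ∧ b = 0 := fun a b h => by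
          by_cases hb : b = 0
          · rw [hb, zero_smul, add_zero] at h
            exact ⟨(smul_eq_zero.1 h).resolve_right hv0, hb⟩
          · refine absurd ?_ (hne (-(b⁻¹ * a)))
            have h' : b • uu c v = -(a • v) := eq_neg_of_add_eq_zero_right h
            calc uu c v = b⁻¹ • (b • uu c v) := by rw [smul_smul, inv_mul_cancel₀ hb, one_smul]
              _ = -(b⁻¹ * a) • v := by rw [h', smul_neg, smul_smul, neg_smul]
        let good := {ab : ZMod p × ZMod p // ab.1 * ab.1 ≠ γ * (ab.2 * ab.2)}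
        have hgood : ∀ ab : good, ∀ e : ZMod p,
            uu c (ab.1.1 • v + ab.1.2 • uu c v) ≠ e • (ab.1.1 • v + ab.1.2 • uu c v) := by
          rintro ⟨⟨a, b⟩, hab⟩ e he
          change uu c (a • v + b • uu c v) = e • (a • v + b • uu c v) at he
          rw [map_add, map_smul, map_smul, hsq, smul_add, smul_smul, smul_smul, smul_smul] at he
          obtain ⟨h1, h2⟩ := hind (b * γ - e * a) (a - e * b) (by
            rw [sub_smul, sub_smul]
            calc _ = (a • uu c v + (b * γ) • v) - ((e * a) • v + (e * b) • uu c v) := by abel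
              _ = 0 := by rw [he, sub_self])
          exact hab (show a * a = γ * (b * b) by linear_combination a * h2 - b * h1)
        let f : good → {iv : ι × V // Submodule.span (ZMod p) {iv.2, uu iv.1 iv.2} = W.1} := fun ab =>
          ⟨(c, ab.1.1 • v + ab.1.2 • uu c v), span_pair_eq W.2
            (W.1.add_mem (W.1.smul_mem _ hv) (W.1.smul_mem _ huv))
            (by
              rw [map_add, map_smul, map_smul, hsq, smul_smul]
              exact W.1.add_mem (W.1.smul_mem _ huv) (W.1.smul_mem _ hv))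
            (fun h => hgood ab 0 (by rw [zero_smul]; exact (congrArg (uu c) h).trans (map_zero _)))
            (hgood ab)⟩
        have hf : Function.Injective f := by
          intro x y h
          have h' : x.1.1 • v + x.1.2 • uu c v = y.1.1 • v + y.1.2 • uu c v := congrArg (fun z => z.1.2) h
          obtain ⟨h1, h2⟩ := hind (x.1.1 - y.1.1) (x.1.2 - y.1.2) (by
            rw [sub_smul, sub_smul]
            calc _ = (x.1.1 • v + x.1.2 • uu c v) - (y.1.1 • v + y.1.2 • uu c v) := by abel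
              _ = 0 := by rw [h', sub_self])
          exact Subtype.ext (Prod.ext (sub_eq_zero.1 h1) (sub_eq_zero.1 h2))
        refine le_trans ?_ (Nat.card_le_card_of_injective f hf)
        -- the bad pairs lie on two lines
        set bad : Set (ZMod p × ZMod p) := {ab | ab.1 * ab.1 = γ * (ab.2 * ab.2)}
        have hgc : Nat.card good = Nat.card (ZMod p × ZMod p) - bad.ncard := by
          rw [← Set.ncard_compl bad]; exact (Nat.card_coe_set_eq _)
        have hbad : bad.ncard + 1 ≤ 2 * p := by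
          by_cases hroot : ∃ ρ₀ : ZMod p, ρ₀ * ρ₀ = γ
          · obtain ⟨ρ₀, hρ⟩ := hroot
            set L1 : Set (ZMod p × ZMod p) := Set.range fun b : ZMod p => (ρ₀ * b, b)
            set L2 : Set (ZMod p × ZMod p) := Set.range fun b : ZMod p => (-(ρ₀ * b), b)
            have hsub : bad ⊆ L1 ∪ L2 := by
              rintro ⟨a, b⟩ hab
              change a * a = γ * (b * b) at hab
              have : (a - ρ₀ * b) * (a + ρ₀ * b) = 0 := by linear_combination hab - b * b * hρ
              rcases mul_eq_zero.1 this with h | h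
              · exact Or.inl ⟨b, Prod.ext (sub_eq_zero.1 h).symm rfl⟩
              · exact Or.inr ⟨b, Prod.ext (eq_neg_of_add_eq_zero_left h).symm rfl⟩
            have h1 := Set.ncard_le_ncard hsub (Set.toFinite _)
            have h2 := Set.ncard_union_add_ncard_inter L1 L2 (Set.toFinite _) (Set.toFinite _)
            have h3 : 0 < (L1 ∩ L2).ncard := (Set.ncard_pos (Set.toFinite _)).2 ⟨(0, 0), ⟨0, by simp⟩, ⟨0, by simp⟩⟩
            have h4 : ∀ f : ZMod p → ZMod p × ZMod p, (Set.range f).ncard ≤ p := fun f => by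
              rw [← Set.image_univ]
              exact (Set.ncard_image_le (Set.toFinite _)).trans (by rw [Set.ncard_univ, Nat.card_zmod])
            have h5 : L1.ncard ≤ p := h4 _
            have h6 : L2.ncard ≤ p := h4 _
            omega
          · have hsub : bad ⊆ {(0, 0)} := by
              rintro ⟨a, b⟩ hab
              change a * a = γ * (b * b) at hab
              by_cases hb : b = 0
              · subst hb
                rw [mul_zero, mul_zero, mul_self_eq_zero] at hab
                exact Set.mem_singleton_iff.2 (Prod.ext hab rfl)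
              · exact absurd ⟨a * b⁻¹, by field_simp; linear_combination hab⟩ hroot
            have h1 := Set.ncard_le_ncard hsub (Set.toFinite _)
            rw [Set.ncard_singleton] at h1
            omega
        rw [hgc, Nat.card_prod, Nat.card_zmod]
        obtain ⟨q, rfl⟩ : ∃ q, p = q + 1 := ⟨p - 1, by omega⟩
        have : (q + 1) * (q + 1) = q * q + 2 * q + 1 := by ring
        simp only [Nat.add_sub_cancel]
        omega
      have h1 : Nat.card ι ≤ n * n - 1 := by omega
      have e3 : p ^ 2 - 1 = (p + 1) * (p - 1) := by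
        rw [← Nat.sq_sub_sq, one_pow]
      have h2 : ((p ^ n - 1) * (p * ((p - 1) * (p - 1)))) * (p ^ (n - 1) - 1) ≤
          ((p ^ n - 1) * (p * ((p - 1) * (p - 1)))) * ((n * n - 1) * (p + 1)) := by
        calc ((p ^ n - 1) * (p * ((p - 1) * (p - 1)))) * (p ^ (n - 1) - 1)
            = (P * ((p - 1) * (p - 1))) * ((p ^ 2 - 1) * (p ^ 2 - p)) := by
              rw [show (P * ((p - 1) * (p - 1))) * ((p ^ 2 - 1) * (p ^ 2 - p)) =
                (P * ((p ^ 2 - 1) * (p ^ 2 - p))) * ((p - 1) * (p - 1)) by ring, hform, e1]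
              ring
          _ ≤ ((n * n - 1) * (p ^ n - 1)) * ((p ^ 2 - 1) * (p ^ 2 - p)) :=
              Nat.mul_le_mul_right _ (hcount.trans (Nat.mul_le_mul_right _ h1))
          _ = _ := by rw [e2, e3]; ring
      have hp1 : 0 < p - 1 := by omega
      exact Nat.le_of_mul_le_mul_left h2 (Nat.mul_pos (Nat.sub_pos_of_lt (Nat.one_lt_pow (by omega) hp.out.one_lt))
        (Nat.mul_pos hp.out.pos (Nat.mul_pos hp1 hp1)))
    have hp3 : 3 ≤ p := by omega
    have h4n : n = 4 := by
      by_contra hne4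
      have hn6 : 6 ≤ n := by omega
      have hgrow : ∀ m, 6 ≤ m → 2 * (m * m) ≤ 3 ^ (m - 2) := by
        intro m hm
        induction m, hm using Nat.le_induction with
        | base => norm_num
        | succ m hm ih =>
          rw [show m + 1 - 2 = (m - 2) + 1 by omega, pow_succ]
          nlinarith
      have h1 := (hgrow n hn6).trans (Nat.pow_le_pow_left hp3 _)
      have h2 : p ^ (n - 1) = p ^ (n - 2) * p := by rw [← pow_succ]; congr 1; omega
      have h3 : 2 * (n * n) * p ≤ p ^ (n - 1) := h2 ▸ Nat.mul_le_mul_right p h1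
      have h4 : (n * n - 1) * (p + 1) ≤ n * n * (p + 1) := Nat.mul_le_mul_right _ (Nat.sub_le _ _)
      have h5 : p ^ (n - 1) ≤ n * n * (p + 1) + 1 := by omega
      nlinarith
    have hp3' : p = 3 := by
      by_contra hne3
      have hp5 : 5 ≤ p := by
        have : p ≠ 4 := fun h => by
          have h' := hp.out
          rw [h] at h'
          norm_num at h'
        omega
      rw [h4n] at hb2
      norm_num at hb2
      have h1 : 25 * p ≤ p ^ 3 := by
        calc 25 * p ≤ (p * p) * p := Nat.mul_le_mul_right _ (Nat.mul_le_mul hp5 hp5)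
          _ = p ^ 3 := by ring
      omega
    subst hp3'
    rw [h4n] at hcardle hform
    norm_num at hform
    have hP : P = 130 := by omega
    haveI : Fact (Nat.Prime 13) := ⟨by norm_num⟩
    obtain ⟨g, hgo⟩ := exists_prime_orderOf_dvd_card' (G := X) 13 ((show 13 ∣ P by rw [hP]; norm_num).trans hdvd)
    have hk4 : k ≤ 4 := by
      rw [hk] at hcardle
      exact (Nat.pow_le_pow_iff_right one_lt_two).1 hcardle
    have hcen := S.centralizes hZM (s := 2) (t := 13) (by norm_num) (by norm_num) (k := k) (by rw [← hk, ← hMmap])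
      hpow (fun i hi => by
        unfold Nat.ModEq
        interval_cases k <;> interval_cases i <;> norm_num) (g := g) (hgo ▸ pow_orderOf_eq_one g)
    -- the fixed space of `g` is a line
    set Fx : Submodule (ZMod 3) V := LinearMap.eqLocus (endo ρ g) (1 : Module.End (ZMod 3) V)
    have hFx : ∀ v, v ∈ Fx ↔ ρ g v = v := fun v => LinearMap.mem_eqLocus
    have hmod : Nat.card Fx ≡ 3 [MOD 13] := by
      haveI := Fintype.ofFinite V
      let f : Function.End V := fun v => ρ g v
      have hit : ∀ j : ℕ, f ^ j = fun v => ρ (g ^ j) v := by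
        intro j
        induction j with
        | zero => funext v; show v = ρ (g ^ 0) v; rw [pow_zero, map_one]; rfl
        | succ j ih =>
          funext v
          rw [pow_succ', ih]
          show ρ g (ρ (g ^ j) v) = ρ (g ^ (j + 1)) v
          rw [pow_succ', map_mul]; rfl
      have h := Equiv.Perm.card_fixedPoints_modEq (f := f) (p := 13) (n := 1)
        (by rw [pow_one, hit, ← hgo, pow_orderOf_eq_one, map_one]; rfl)
      rw [← Nat.card_eq_fintype_card, ← Nat.card_eq_fintype_card, card_space (hn.symm.trans h4n)] at h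
      have e : Nat.card Fx = Nat.card (Function.fixedPoints (ρ g : V → V)) :=
        Nat.card_congr (Equiv.subtypeEquivRight fun v => hFx v)
      rw [e]
      exact h.symm.trans (by decide)
    obtain ⟨v₁, hv₁, hline⟩ : ∃ v₁ : V, v₁ ≠ 0 ∧ ∀ v, v ∈ Fx ↔ ∃ e : ZMod 3, v = e • v₁ := by
      have hd : finrank (ZMod 3) Fx = 1 := by
        have hle : finrank (ZMod 3) Fx ≤ 4 := h4n ▸ hn ▸ Submodule.finrank_le Fx
        have hc := card_space (V := Fx) (rfl : finrank (ZMod 3) Fx = _)
        by_contra h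
        have hne4 : finrank (ZMod 3) Fx ≠ 4 := fun h4 => by
          have htop : Fx = ⊤ := Submodule.eq_top_of_finrank_eq (h4.trans (h4n.symm.trans hn))
          have : g = 1 := S.inj (LinearEquiv.ext fun v => by
            rw [map_one]; exact (hFx v).1 (htop ▸ Submodule.mem_top))
          rw [this, orderOf_one] at hgo
          omega
        rw [hc] at hmod
        unfold Nat.ModEq at hmod
        interval_cases hh : finrank (ZMod 3) Fx <;> simp_all
      obtain ⟨⟨w, hw⟩, hw0, hspan⟩ := finrank_eq_one_iff'.1 hd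
      refine ⟨w, fun h => hw0 (Subtype.ext h), fun v => ⟨fun hv => ?_, fun ⟨e, he⟩ => he ▸ Fx.smul_mem e hw⟩⟩
      obtain ⟨e, he⟩ := hspan ⟨v, hv⟩
      exact ⟨e, (congrArg Subtype.val he).symm⟩
    have heig : ∀ y ∈ M, ∃ e : ZMod 3, ρ y v₁ = e • v₁ := fun y hy => by
      rw [← hline, hFx, ← LinearEquiv.mul_apply, ← map_mul, hcen y hy, map_mul, LinearEquiv.mul_apply,
        (hFx v₁).1 ((hline v₁).2 ⟨1, (one_smul _ _).symm⟩)]
    obtain ⟨e₁, he₁⟩ := heig u₀ hu₀
    obtain ⟨e₂, he₂⟩ := heig w₀ hw₀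
    have h1 := LinearMap.congr_fun (hconj u₀ hu₀ w₀ hw₀) (ρ w₀ v₁)
    simp only [← hlam, Module.End.mul_apply, LinearMap.smul_apply, endo_apply] at h1
    rw [← LinearEquiv.mul_apply (ρ w₀⁻¹),
      ← map_mul, inv_mul_cancel, map_one, linearEquiv_one_apply, he₁,
      map_smul, he₂, smul_smul, map_smul, he₁, smul_smul, smul_smul] at h1
    have h2 := smul_left_injective (ZMod 3) hv₁ h1
    have hne0 : e₁ * e₂ ≠ 0 := mul_ne_zero (fun h => hv₁ (by
        rw [h, zero_smul, LinearEquiv.map_eq_zero_iff] at he₁; exact he₁))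
      (fun h => hv₁ (by rw [h, zero_smul, LinearEquiv.map_eq_zero_iff] at he₂; exact he₂))
    exact hlam1 (mul_right_cancel₀ hne0 (by linear_combination -h2))
  · -- `s` odd
    have hs3 : 3 ≤ s := by have := hs.two_le; omega
    have hp7 : 7 ≤ p := by
      have h1 : 2 * s ∣ p - 1 := ((Nat.coprime_primes Nat.prime_two hs).2 (Ne.symm hs2)).mul_dvd_of_dvd_of_dvd
        (by obtain ⟨j, hj⟩ := hp.out.odd_of_ne_two hsne; exact ⟨j, by omega⟩) hsp
      have h2 := Nat.le_of_dvd (by omega) h1
      omega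
    have h3n : n = 3 := by
      by_contra hne3
      have hn5 : 5 ≤ n := by
        rcases Nat.lt_or_ge n 5 with h | h
        · exfalso
          have h4 : n = 4 := by omega
          rw [h4] at hsn
          exact hs2 ((Nat.prime_dvd_prime_iff_eq hs Nat.prime_two).1 (hs.dvd_of_dvd_pow (show s ∣ 2 ^ 2 from hsn)))
        · exact h
      have hgrow : ∀ m, 5 ≤ m → m * m ≤ 7 ^ (m - 3) := by
        intro m hm
        induction m, hm using Nat.le_induction with
        | base => norm_num
        | succ m hm ih =>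
          rw [show m + 1 - 3 = (m - 3) + 1 by omega, pow_succ]
          nlinarith
      have h1 := (hgrow n hn5).trans (Nat.pow_le_pow_left hp7 _)
      have h2 : p ^ (n - 1) = p ^ (n - 3) * p ^ 2 := by rw [← pow_add]; congr 1; omega
      have h3 : n * n * p ^ 2 ≤ p ^ (n - 1) := h2 ▸ Nat.mul_le_mul_right _ h1
      obtain ⟨N, hN⟩ : ∃ N, n * n = N + 1 := ⟨n * n - 1, by
        have : 1 ≤ n * n := Nat.mul_pos (by omega) (by omega)
        omega⟩
      obtain ⟨Q, hQ⟩ : ∃ Q, p ^ 2 = Q + 1 := ⟨p ^ 2 - 1, by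
        have : 1 ≤ p ^ 2 := Nat.one_le_pow _ _ hp.out.pos
        omega⟩
      rw [hN, hQ] at hb1 h3
      simp only [Nat.add_sub_cancel] at hb1
      have hN1 : 24 ≤ N := by
        have := Nat.mul_le_mul hn5 hn5
        omega
      rw [add_mul, mul_add, one_mul, mul_one] at h3
      omega
    rw [h3n] at hcardle hform hsn
    obtain rfl : s = 3 := (Nat.prime_dvd_prime_iff_eq hs Nat.prime_three).1 hsn
    have hP : P = p ^ 2 + p + 1 := by
      have e : (p ^ 3 - 1) * (p ^ 3 - p) = (p ^ 2 + p + 1) * ((p ^ 2 - 1) * (p ^ 2 - p)) := by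
        obtain ⟨q, rfl⟩ : ∃ q, p = q + 1 := ⟨p - 1, by omega⟩
        have h1 : (q + 1) ^ 3 - 1 = q * ((q + 1) ^ 2 + (q + 1) + 1) := Nat.sub_eq_of_eq_add (by ring)
        have h2 : (q + 1) ^ 3 - (q + 1) = ((q + 1) ^ 2 - 1) * (q + 1) := by rw [Nat.sub_mul, one_mul, ← pow_succ]
        rw [h1, h2, e2]
        simp only [Nat.add_sub_cancel]
        ring
      rw [e] at hform
      refine Nat.eq_of_mul_eq_mul_right ?_ hform
      have : p < p ^ 2 := by nlinarith
      exact Nat.mul_pos (by omega) (by omega)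
    obtain ⟨t, ht, htd, ht3⟩ : ∃ t, t.Prime ∧ t ∣ p ^ 2 + p + 1 ∧ t ≠ 3 := by
      by_contra hc
      push Not at hc
      have h9 := Nat.eq_prime_pow_of_unique_prime_dvd (n := p ^ 2 + p + 1) (by omega) (fun {d} hd hdd => hc d hd hdd)
      set j := (p ^ 2 + p + 1).primeFactorsList.length
      have hj : 2 ≤ j := by
        by_contra hj
        have h1 := Nat.pow_le_pow_right (show 1 ≤ 3 by norm_num) (show j ≤ 1 by omega)
        rw [← h9] at h1
        nlinarith
      have hd9 : (((p ^ 2 + p + 1 : ℕ)) : ZMod 9) = 0 :=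
        (ZMod.natCast_eq_zero_iff _ 9).2 (h9 ▸ pow_dvd_pow 3 hj)
      have key : ∀ x : ZMod 9, x ^ 2 + x + 1 ≠ 0 := by decide
      push_cast at hd9
      exact key _ hd9
    haveI := Fact.mk ht
    have ht2 : t ≠ 2 := fun h => by
      rw [h] at htd
      have h1 : Even (p ^ 2 + p) := by rw [pow_two, ← Nat.mul_succ]; exact Nat.even_mul_succ_self p
      have h2 := (Nat.dvd_add_right (even_iff_two_dvd.1 h1)).1 htd
      norm_num at h2
    have htp : Nat.Coprime t (p - 1) := ht.coprime_iff_not_dvd.2 fun hd => ht3 (by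
      refine (Nat.prime_dvd_prime_iff_eq ht Nat.prime_three).1 ?_
      have e : p ^ 2 + p + 1 = (p - 1) * (p + 2) + 3 := by
        obtain ⟨q, rfl⟩ : ∃ q, p = q + 1 := ⟨p - 1, by omega⟩
        simp only [Nat.add_sub_cancel]
        ring
      exact (Nat.dvd_add_right (hd.mul_right _)).1 (e ▸ htd))
    obtain ⟨g, hgo⟩ := exists_prime_orderOf_dvd_card' (G := X) t ((hP ▸ htd : t ∣ P).trans hdvd)
    have hk2 : k ≤ 2 := by
      rw [hk] at hcardle
      exact (Nat.pow_le_pow_iff_right (show 1 < 3 by norm_num)).1 hcardle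
    have hk2' : k = 2 := by
      by_contra hne2
      have hk1 : k ≤ 1 := by omega
      haveI : IsCyclic Mb := by
        rcases (show k = 0 ∨ k = 1 by omega) with rfl | rfl
        · haveI : Subsingleton Mb := (Nat.card_eq_one_iff_unique.1 (by rw [hk, pow_zero])).1
          infer_instance
        · exact isCyclic_of_prime_card (by rw [hk, pow_one])
      obtain ⟨c, hc⟩ := IsCyclic.exists_generator (α := Mb)
      have hform' : ∀ y (hy : y ∈ M), ∃ i : ℤ, y * ((r c) ^ i)⁻¹ ∈ Z := fun y hy => by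
        obtain ⟨i, hi⟩ := Subgroup.mem_zpowers_iff.1 (hc ⟨π y, hy⟩)
        refine ⟨i, ?_⟩
        rw [← QuotientGroup.eq_one_iff]
        change π (y * ((r c) ^ i)⁻¹) = 1
        rw [map_mul, map_inv, map_zpow, hr, ← Subgroup.coe_zpow, hi, mul_inv_cancel]
      obtain ⟨i, hi⟩ := hform' u₀ hu₀
      obtain ⟨j, hj⟩ := hform' w₀ hw₀
      refine hne₀ ?_
      have e : ∀ (z : X), z ∈ Z → ∀ y, Commute z y := fun z hz y => S.scalar_comm hz y
      have hu' : u₀ = (u₀ * ((r c) ^ i)⁻¹) * (r c) ^ i := (inv_mul_cancel_right _ _).symm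
      have hw' : w₀ = (w₀ * ((r c) ^ j)⁻¹) * (r c) ^ j := (inv_mul_cancel_right _ _).symm
      rw [hu', hw']
      exact (((e _ hj _).mul_left ((e _ hi _).symm.mul_right (Commute.zpow_zpow_self (r c) j i)))).eq
    subst hk2'
    have hcen := S.centralizes hZM (s := 3) (t := t) ht3 htp (k := 2) (by rw [← hk, ← hMmap]) hpow (fun i hi => by
      intro hmod
      rcases (show i = 0 ∨ i = 1 by omega) with rfl | rfl
      · have h := (Nat.modEq_iff_dvd' (by norm_num)).1 hmod
        norm_num at h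
        exact ht2 ((Nat.prime_dvd_prime_iff_eq ht Nat.prime_two).1 (ht.dvd_of_dvd_pow (show t ∣ 2 ^ 3 from h)))
      · have h := (Nat.modEq_iff_dvd' (by norm_num)).1 hmod
        norm_num at h
        rcases ht.dvd_mul.1 (show t ∣ 2 * 3 from h) with h | h
        · exact ht2 ((Nat.prime_dvd_prime_iff_eq ht Nat.prime_two).1 h)
        · exact ht3 ((Nat.prime_dvd_prime_iff_eq ht Nat.prime_three).1 h)) (g := g) (hgo ▸ pow_orderOf_eq_one g)
    -- the representatives span all endomorphisms
    have hcentral : ∀ T : Module.End (ZMod p) V, endo ρ g * T = T * endo ρ g := by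
      intro T
      have hspan : Submodule.span (ZMod p) (Set.range fun c : Mb => endo ρ (r c)) = ⊤ := by
        refine Submodule.eq_top_of_finrank_eq ?_
        rw [finrank_span_eq_card hli, ← Nat.card_eq_fintype_card, hk,
          Module.finrank_linearMap (R := ZMod p) (S := ZMod p) (M := V) (N := V), ← hn, h3n]
        norm_num
      have hT : T ∈ Submodule.span (ZMod p) (Set.range fun c : Mb => endo ρ (r c)) := hspan ▸ Submodule.mem_top
      induction hT using Submodule.span_induction with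
      | mem y hy =>
        obtain ⟨c, rfl⟩ := hy
        rw [← map_mul, ← map_mul, hcen _ (hrep c)]
      | zero => rw [mul_zero, zero_mul]
      | add y z _ _ h1 h2 => rw [mul_add, add_mul, h1, h2]
      | smul a y _ h1 => rw [mul_smul_comm, smul_mul_assoc, h1]
    have hgs : g ∈ Z := by
      by_contra hgs
      obtain ⟨v, hv, hne⟩ := exists_not_eigen (f := endo ρ g) hgs
      have hv' : v ∉ Submodule.span (ZMod p) ({endo ρ g v} : Set V) := fun hm => by
        obtain ⟨e, he⟩ := Submodule.mem_span_singleton.1 hm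
        have he0 : e ≠ 0 := fun h => hv (by rw [← he, h, zero_smul])
        exact hne e⁻¹ (by conv_rhs => rw [← he]; rw [smul_smul, inv_mul_cancel₀ he0, one_smul])
      obtain ⟨f, hf1, hf2⟩ := Submodule.exists_dual_map_eq_bot_of_notMem hv' inferInstance
      have hf3 : f (endo ρ g v) = 0 := (Submodule.mem_bot _).1 (hf2 ▸ Submodule.mem_map_of_mem
        (Submodule.mem_span_singleton_self _))
      have h := LinearMap.congr_fun (hcentral (LinearMap.smulRight f v)) v
      rw [Module.End.mul_apply, Module.End.mul_apply, LinearMap.smulRight_apply, LinearMap.smulRight_apply, hf3,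
        zero_smul, map_smul, smul_eq_zero] at h
      rcases h with h | h
      · exact hf1 h
      · exact hv ((LinearEquiv.map_eq_zero_iff _).1 h)
    have hg1 := S.eq_one_of_pow hgs htp (hgo ▸ pow_orderOf_eq_one g)
    rw [hg1, orderOf_one] at hgo
    exact ht.ne_one hgo.symm

end Setup

end Cfsg.Agent.PlaneTransitive
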