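/-
Solvable groups transitive on 1- and 2-subspaces of a vector space of dimension at least 3 over `ZMod p`:
semilinear over a field with `p^n` elements, `n = 3`, or `n = 5` and `p = 2`.

Main result (namespace `Cfsg.Agent.PlaneTransitive`): `Setup.classify`
-/
import Cfsg.Agent.Lib.PlaneTransitive.NoField
import Mathlib.FieldTheory.Finite.GaloisField
import Mathlib.FieldTheory.Galois.Basic

set_option autoImplicit false

namespace Cfsg.Agent.PlaneTransitive

open Module

universe u w

variable {p : ℕ} [hp : Fact p.Prime] {V : Type u} [AddCommGroup V] [Module (ZMod p) V] [Finite V]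
  {X : Type w} [Group X]

namespace Setup

variable {ρ : X →* (V ≃ₗ[ZMod p] V)} (S : Setup ρ)
include S

theorem plane_dvd_index [Finite X] : Nat.card (Plane p V) ∣ (scalars ρ).index := by
  classical
  haveI : Module.Finite (ZMod p) V := Module.Finite.of_finite
  haveI : Finite (Submodule (ZMod p) V) := Finite.of_injective _ SetLike.coe_injective
  letI : MulAction X (Plane p V) :=
    { smul := fun x W => ⟨W.1.map (ρ x : V →ₗ[ZMod p] V), by rw [LinearEquiv.finrank_map_eq, W.2]⟩
      one_smul := fun W => Subtype.ext (by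
        show W.1.map (ρ 1 : V →ₗ[ZMod p] V) = W.1
        rw [map_one]; exact Submodule.map_id W.1)
      mul_smul := fun x y W => Subtype.ext (by
        show W.1.map (ρ (x * y) : V →ₗ[ZMod p] V) = (W.1.map (ρ y : V →ₗ[ZMod p] V)).map (ρ x : V →ₗ[ZMod p] V)
        rw [map_mul, ← Submodule.map_comp]; rfl) }
  rcases isEmpty_or_nonempty (Plane p V) with hne | ⟨⟨W⟩⟩
  · have h := card_plane_mul (p := p) (V := V) rfl (by have := S.three; omega)
    rw [Nat.card_of_isEmpty, zero_mul] at h
    have h1 : p ^ finrank (ZMod p) V - 1 ≠ 0 :=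
      Nat.sub_ne_zero_of_lt (Nat.one_lt_pow (by have := S.three; omega) hp.out.one_lt)
    have h2 : p ^ finrank (ZMod p) V - p ≠ 0 := by
      refine Nat.sub_ne_zero_of_lt ?_
      calc p = p ^ 1 := (pow_one p).symm
        _ < p ^ finrank (ZMod p) V := Nat.pow_lt_pow_right hp.out.one_lt (by have := S.three; omega)
    exact absurd h.symm (mul_ne_zero h1 h2)
  · have hle : scalars ρ ≤ MulAction.stabilizer X W := by
      rintro z ⟨c, hc⟩
      refine MulAction.mem_stabilizer_iff.2 (Subtype.ext (Submodule.eq_of_le_of_finrank_eq ?_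
        ((LinearEquiv.finrank_map_eq (ρ z) W.1))))
      rintro _ ⟨v, hv, rfl⟩
      show ρ z v ∈ W.1
      rw [hc]
      exact W.1.smul_mem c hv
    have hall : MulAction.orbit X W = Set.univ := Set.eq_univ_of_forall fun W' => by
      obtain ⟨x, hx⟩ := S.planes W W'
      exact ⟨x, Subtype.ext hx⟩
    have hcard : Nat.card (Plane p V) = (MulAction.stabilizer X W).index := by
      rw [MulAction.index_stabilizer, hall, Set.ncard_univ]
    exact hcard ▸ Subgroup.index_dvd_of_le hle

theorem exists_coord [Finite X] [Group.IsSolvable X] :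
    ∃ (F : Type u) (_ : Field F) (_ : Finite F) (e : V ≃+ F), ∀ x, ∃ (a : Fˣ) (φ : F ≃+* F),
      ∀ v, e (ρ x v) = (a : F) * φ (e v) := by
  classical
  haveI := S.nontrivial
  obtain ⟨A, hA, hcomm, a, ha, hns⟩ := S.exists_nonscalar_abelian
  haveI := hA
  obtain ⟨R, v₀, hRc, hbij, hinj, hnorm⟩ := S.exists_field A hcomm ha hns
  haveI : Finite R := Finite.of_injective _ hbij.1
  haveI : Nontrivial R := hbij.2.nontrivial
  letI : CommRing R := { (inferInstance : Ring R) with mul_comm := fun r s => Subtype.ext (hRc r r.2 s s.2) }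
  haveI : NoZeroDivisors R := ⟨fun {r s} h => by
    by_contra hne
    push Not at hne
    refine hne.2 (hbij.1 (hinj r r.2 (fun h0 => hne.1 (Subtype.ext h0)) ?_))
    have h' := congrArg (fun t : R => (t : Module.End (ZMod p) V) v₀) h
    simpa using h'⟩
  haveI : IsDomain R := NoZeroDivisors.to_isDomain R
  letI : Field R := (Finite.isField_of_domain R).toField
  let e : V ≃+ R := (AddEquiv.ofBijective
    ({ toFun := fun r => (r : Module.End (ZMod p) V) v₀, map_zero' := rfl, map_add' := fun r s => rfl } : R →+ V)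
    hbij).symm
  have he : ∀ v, ((e v : R) : Module.End (ZMod p) V) v₀ = v := fun v => e.symm_apply_apply v
  refine ⟨R, inferInstance, inferInstance, e, fun x => ?_⟩
  let φ : R ≃+* R :=
    { toFun := fun r => ⟨endo ρ x * r * endo ρ x⁻¹, hnorm x r r.2⟩
      invFun := fun r => ⟨endo ρ x⁻¹ * r * endo ρ x, by simpa only [inv_inv] using hnorm x⁻¹ r r.2⟩
      left_inv := fun r => Subtype.ext (by
        show endo ρ x⁻¹ * (endo ρ x * r * endo ρ x⁻¹) * endo ρ x = r
        rw [← mul_assoc, ← mul_assoc, endo_inv_mul, one_mul, mul_assoc, endo_inv_mul, mul_one])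
      right_inv := fun r => Subtype.ext (by
        show endo ρ x * (endo ρ x⁻¹ * r * endo ρ x) * endo ρ x⁻¹ = r
        rw [← mul_assoc, ← mul_assoc, endo_mul_inv, one_mul, mul_assoc, endo_mul_inv, mul_one])
      map_mul' := fun r s => Subtype.ext (by
        show endo ρ x * ((r : Module.End (ZMod p) V) * s) * endo ρ x⁻¹ =
          (endo ρ x * r * endo ρ x⁻¹) * (endo ρ x * s * endo ρ x⁻¹)
        rw [mul_assoc (endo ρ x * r), ← mul_assoc (endo ρ x⁻¹), ← mul_assoc (endo ρ x⁻¹), endo_inv_mul, one_mul,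
          mul_assoc, mul_assoc, mul_assoc])
      map_add' := fun r s => Subtype.ext (by
        show endo ρ x * ((r : Module.End (ZMod p) V) + s) * endo ρ x⁻¹ =
          endo ρ x * r * endo ρ x⁻¹ + endo ρ x * s * endo ρ x⁻¹
        rw [mul_add, add_mul]) }
  have hv₀ : v₀ ≠ 0 := fun h => by
    obtain ⟨v, hv⟩ := exists_ne (0 : V)
    exact hv ((he v).symm.trans (by rw [h, map_zero]))
  have hne : e (ρ x v₀) ≠ 0 := by
    rw [ne_eq, map_eq_zero_iff e e.injective, LinearEquiv.map_eq_zero_iff]
    exact hv₀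
  refine ⟨Units.mk0 _ hne, φ, fun v => e.symm.injective ?_⟩
  rw [e.symm_apply_apply]
  show ρ x v = ((e (ρ x v₀) * φ (e v) : R) : Module.End (ZMod p) V) v₀
  rw [mul_comm]
  show ρ x v = (endo ρ x * (e v : R) * endo ρ x⁻¹) ((e (ρ x v₀) : R).1 v₀)
  rw [he, Module.End.mul_apply, Module.End.mul_apply, endo_apply, endo_apply, ← LinearEquiv.mul_apply, ← map_mul,
    inv_mul_cancel, map_one, linearEquiv_one_apply, he]

/-- The classification, with the order bound. -/
theorem classify [Finite X] [Group.IsSolvable X] {n : ℕ} (hn : finrank (ZMod p) V = n) :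
    (n = 3 ∨ (n = 5 ∧ p = 2)) ∧ ∃ (F : Type u) (_ : Field F) (_ : Finite F) (_ : CharP F p) (e : V ≃+ F),
      Nat.card F = p ^ n ∧ (∀ x, ∃ (a : Fˣ) (φ : F ≃+* F), ∀ v, e (ρ x v) = (a : F) * φ (e v)) ∧
      (p = 2 → Nat.card (Plane p V) ∣ Nat.card X ∧ Nat.card X ∣ n * (2 ^ n - 1) ∧
        (Nat.Coprime (Nat.card X) n → ∀ x, ∃ a : Fˣ, ∀ v, e (ρ x v) = (a : F) * e v)) := by
  classical
  obtain ⟨F, hF, hFfin, e, hcoord⟩ := S.exists_coord
  have hFc : Nat.card F = p ^ n := by rw [← Nat.card_congr e.toEquiv, card_space hn]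
  haveI : CharP F p := by
    haveI := Fintype.ofFinite F
    obtain ⟨q, hq⟩ := CharP.exists F
    obtain ⟨m, hqp, hm⟩ := FiniteField.card F q
    have h1 : q ^ (m : ℕ) = p ^ n := by rw [← hm, ← Nat.card_eq_fintype_card, hFc]
    rwa [(Nat.prime_dvd_prime_iff_eq hqp hp.out).1 (hqp.dvd_of_dvd_pow (h1 ▸ dvd_pow_self q m.pos.ne'))] at hq
  letI : Algebra (ZMod p) F := ZMod.algebra F p
  choose a φ haφ using hcoord
  have hone : ∀ x, (a x : F) = e (ρ x (e.symm 1)) := fun x => by
    rw [haφ x (e.symm 1), e.apply_symm_apply, map_one, mul_one]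
  have hdet : ∀ x (b : F) (ψ : F → F), (∀ v, e (ρ x v) = b * ψ (e v)) → ψ 1 = 1 → b = a x ∧ ∀ t, φ x t = ψ t := by
    intro x b ψ h h1
    have hb : b = a x := by rw [hone x, h (e.symm 1), e.apply_symm_apply, h1, mul_one]
    refine ⟨hb, fun t => ?_⟩
    have h2 := h (e.symm t)
    rw [haφ x (e.symm t), e.apply_symm_apply, hb] at h2
    exact mul_left_cancel₀ (a x).ne_zero h2
  have hmul : ∀ x y, (a x : F) * φ x (a y : F) = a (x * y) ∧ ∀ t, φ (x * y) t = φ x (φ y t) := by
    intro x y
    exact hdet (x * y) _ (fun t => φ x (φ y t)) (fun v => by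
      rw [map_mul, LinearEquiv.mul_apply, haφ x, haφ y, map_mul, mul_assoc]) (by rw [map_one, map_one])
  let toAlg : (F ≃+* F) → (F ≃ₐ[ZMod p] F) := fun f =>
    AlgEquiv.ofRingEquiv (f := f) fun c => RingHom.congr_fun
      (Subsingleton.elim ((f : F →+* F).comp (algebraMap (ZMod p) F)) (algebraMap (ZMod p) F)) c
  let Φ : X →* (F ≃ₐ[ZMod p] F) :=
    { toFun := fun x => toAlg (φ x)
      map_one' := AlgEquiv.ext fun t => ((hdet 1 1 id (fun v => by rw [map_one]; exact (one_mul _).symm) rfl).2 t)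
      map_mul' := fun x y => AlgEquiv.ext fun t => (hmul x y).2 t }
  haveI : Module.Finite (ZMod p) F := Module.Finite.of_finite
  haveI : FiniteDimensional (ZMod p) F := Module.Finite.of_finite
  have hGal : Nat.card (F ≃ₐ[ZMod p] F) = n := by
    rw [IsGalois.card_aut_eq_finrank]
    have h1 : Nat.card F = p ^ finrank (ZMod p) F := by
      rw [Module.natCard_eq_pow_finrank (K := ZMod p), Nat.card_zmod]
    exact Nat.pow_right_injective hp.out.two_le (h1.symm.trans hFc)
  have hscalar : ∀ (c : ZMod p) (v : V), e (c • v) = algebraMap (ZMod p) F c * e v := fun c v => by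
    rw [← Algebra.smul_def]
    exact ZMod.map_smul e.toAddMonoidHom c v
  set K := Φ.ker
  have hKmem : ∀ x, x ∈ K ↔ ∀ v, e (ρ x v) = (a x : F) * e v := by
    intro x
    refine ⟨fun hx v => ?_, fun hx => AlgEquiv.ext fun t => (hdet x _ id hx rfl).2 t⟩
    rw [haφ x v]
    congr 1
    exact AlgEquiv.congr_fun (show Φ x = 1 from hx) (e v)
  have hZ0 : ∀ x, x ∈ scalars ρ → x ∈ K ∧ ∃ c : ZMod p, (a x : F) = algebraMap (ZMod p) F c := by
    rintro x ⟨c, hc⟩
    have h := hdet x (algebraMap (ZMod p) F c) id (fun v => by rw [hc, hscalar]; rfl) rfl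
    exact ⟨(hKmem x).2 fun v => by rw [← h.1, hc, hscalar], c, h.1.symm⟩
  have hZK : scalars ρ ≤ K := fun x hx => (hZ0 x hx).1
  let ψ : K →* Fˣ :=
    { toFun := fun x => a x
      map_one' := Units.ext (hdet 1 1 id (fun v => by rw [map_one]; exact (one_mul _).symm) rfl).1.symm
      map_mul' := fun x y => Units.ext (by
        rw [Units.val_mul, Subgroup.coe_mul, ← (hmul x y).1]
        congr 1
        exact AlgEquiv.congr_fun (show Φ (x : X) = 1 from x.2) _) }
  set Sc := (Units.map (algebraMap (ZMod p) F : ZMod p →* F)).range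
  have hScc : Nat.card Sc = p - 1 := by
    rw [← Nat.card_congr (MonoidHom.ofInjective (f := Units.map (algebraMap (ZMod p) F : ZMod p →* F))
      (Units.map_injective (algebraMap (ZMod p) F).injective)).toEquiv, Nat.card_eq_fintype_card, ZMod.card_units]
  have hker : ((QuotientGroup.mk' Sc).comp ψ).ker = (scalars ρ).subgroupOf K := by
    ext x
    rw [MonoidHom.mem_ker, MonoidHom.comp_apply, QuotientGroup.mk'_apply, QuotientGroup.eq_one_iff,
      Subgroup.mem_subgroupOf]
    constructor
    · rintro ⟨c, hc⟩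
      refine ⟨(c : ZMod p), fun v => e.injective ?_⟩
      rw [(hKmem x).1 x.2 v, hscalar]
      congr 1
      exact (congrArg Units.val hc).symm
    · intro hx
      obtain ⟨-, c, hc⟩ := hZ0 x hx
      have hc0 : c ≠ 0 := fun h => (a x).ne_zero (by rw [hc, h, map_zero])
      exact ⟨Units.mk0 c hc0, Units.ext hc.symm⟩
  have hrel : (scalars ρ).relIndex K ∣ Sc.index := by
    show ((scalars ρ).subgroupOf K).index ∣ Nat.card (Fˣ ⧸ Sc)
    rw [← hker, Subgroup.index_ker]
    exact Subgroup.card_subgroup_dvd_card _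
  have hKi : K.index ∣ n := by
    rw [Subgroup.index_ker, ← hGal]
    exact Subgroup.card_subgroup_dvd_card _
  have hidx : (scalars ρ).index ∣ Sc.index * n := by
    rw [← Subgroup.relIndex_mul_index hZK]
    exact Nat.mul_dvd_mul hrel hKi
  have hSci : (p - 1) * Sc.index = p ^ n - 1 := by
    rw [← hScc, Sc.card_mul_index, Nat.card_units, hFc]
  obtain ⟨k, hk⟩ := S.plane_dvd_index.trans hidx
  have hn3 : 3 ≤ n := hn ▸ S.three
  have hform := card_plane_mul (p := p) (V := V) hn (by omega)
  set P := Nat.card (Plane p V)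
  have hp2 : 2 ≤ p := hp.out.two_le
  have e1 : (p ^ n - p) = (p ^ (n - 1) - 1) * p := by
    rw [Nat.sub_mul, one_mul, ← pow_succ, show n - 1 + 1 = n by omega]
  have e2 : p ^ 2 - p = (p - 1) * p := by rw [Nat.sub_mul, one_mul, pow_two]
  have hkey : n * (p ^ 2 - 1) = k * (p ^ (n - 1) - 1) := by
    have hpos : 0 < (p ^ n - 1) * p := Nat.mul_pos (Nat.sub_pos_of_lt (Nat.one_lt_pow (by omega) hp.out.one_lt)) hp.out.pos
    refine Nat.eq_of_mul_eq_mul_left hpos ?_
    calc (p ^ n - 1) * p * (n * (p ^ 2 - 1)) = (Sc.index * n) * ((p ^ 2 - 1) * ((p - 1) * p)) := by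
          rw [← hSci]; ring
      _ = (P * ((p ^ 2 - 1) * (p ^ 2 - p))) * k := by rw [hk, e2]; ring
      _ = (p ^ n - 1) * p * (k * (p ^ (n - 1) - 1)) := by rw [hform, e1]; ring
  have hcase : n = 3 ∨ (n = 5 ∧ p = 2) := by
    by_contra hne
    push Not at hne
    have hn4 : 4 ≤ n := by omega
    have hk1 : 1 ≤ k := by
      rcases Nat.eq_zero_or_pos k with rfl | hk1
      · rw [zero_mul] at hkey
        have : 1 < p ^ 2 := Nat.one_lt_pow two_ne_zero hp.out.one_lt
        exact absurd hkey (mul_ne_zero (by omega) (by omega))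
      · exact hk1
    have hle : p ^ (n - 1) - 1 ≤ n * (p ^ 2 - 1) := hkey ▸ Nat.le_mul_of_pos_left _ hk1
    rcases (show n = 4 ∨ n = 5 ∨ 6 ≤ n by omega) with rfl | rfl | h6
    · norm_num at hkey hle
      have hp4 : p ≤ 4 := by
        by_contra hp5
        have h1 : 5 * (p * p) ≤ p * (p * p) := Nat.mul_le_mul_right _ (by omega)
        have h2 : p ^ 3 = p * (p * p) := by ring
        have h3 : p ^ 2 = p * p := pow_two p
        have h4 : 0 < p * p := by positivity
        omega
      rcases (show p = 2 ∨ p = 3 ∨ p = 4 by omega) with h | h | h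
      · subst h; norm_num at hkey; omega
      · subst h; norm_num at hkey; omega
      · have := hp.out; rw [h] at this; norm_num at this
    · have hp3 : 3 ≤ p := by
        have := hne.2 rfl
        omega
      norm_num at hle
      have h1 : 9 * (p * p) ≤ (p * p) * (p * p) := Nat.mul_le_mul_right _ (by nlinarith)
      have h2 : p ^ 4 = (p * p) * (p * p) := by ring
      have h3 : p ^ 2 = p * p := pow_two p
      have h4 : 0 < p * p := by positivity
      omega
    · have hgrow : ∀ m, 6 ≤ m → m + 1 ≤ 2 ^ (m - 3) := by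
        intro m hm
        induction m, hm using Nat.le_induction with
        | base => norm_num
        | succ m hm ih =>
          rw [show m + 1 - 3 = (m - 3) + 1 by omega, pow_succ]
          omega
      have h1 : (n + 1) * p ^ 2 ≤ p ^ (n - 1) := by
        calc (n + 1) * p ^ 2 ≤ p ^ (n - 3) * p ^ 2 :=
              Nat.mul_le_mul_right _ ((hgrow n h6).trans (Nat.pow_le_pow_left hp2 _))
          _ = p ^ (n - 1) := by rw [← pow_add]; congr 1; omega
      have h2 : 1 < p ^ 2 := Nat.one_lt_pow two_ne_zero hp.out.one_lt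
      have h3 : n * (p ^ 2 - 1) ≤ n * p ^ 2 := Nat.mul_le_mul_left _ (Nat.sub_le _ _)
      rw [add_mul, one_mul] at h1
      omega
  refine ⟨hcase, F, hF, hFfin, inferInstance, e, hFc, fun x => ⟨a x, φ x, haφ x⟩, ?_⟩
  rintro rfl
  have hZ1 : scalars ρ = ⊥ := by
    refine (Subgroup.eq_bot_iff_forall _).2 fun z hz => ?_
    obtain ⟨c, hc⟩ := hz
    haveI := S.nontrivial
    obtain ⟨v, hv⟩ := exists_ne (0 : V)
    have hc0 : c ≠ 0 := fun h => hv (by
      have h' := hc v; rw [h, zero_smul, LinearEquiv.map_eq_zero_iff] at h'; exact h')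
    have hc1 : c = 1 := by
      have h := ZMod.val_lt c
      have h' : c.val = 1 := by
        have : c.val ≠ 0 := fun h0 => hc0 ((ZMod.val_eq_zero c).1 h0)
        omega
      exact (ZMod.natCast_rightInverse c).symm.trans (by rw [h', Nat.cast_one])
    exact S.inj (LinearEquiv.ext fun w => by rw [hc, hc1, one_smul, map_one]; rfl)
  have hSc : Sc.index = 2 ^ n - 1 := by
    rw [show (2 : ℕ) - 1 = 1 from rfl, one_mul] at hSci
    exact hSci
  refine ⟨?_, ?_, ?_⟩
  · have h := S.plane_dvd_index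
    rwa [hZ1, Subgroup.index_bot] at h
  · rw [hZ1, Subgroup.index_bot, hSc] at hidx
    rwa [mul_comm n]
  · intro hco x
    refine ⟨a x, (hKmem x).1 ?_⟩
    have h1 : K.index ∣ Nat.card X := K.index_dvd_card
    rw [Subgroup.index_eq_one.1 (Nat.eq_one_of_dvd_coprimes hco h1 hKi)]
    exact Subgroup.mem_top x

end Setup

end Cfsg.Agent.PlaneTransitive
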